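import Groth.Agent.FreeActLib.Graph

/-!
Monomorphisms from groups of multiplicative type into affine groups are closed immersions.
-/

set_option autoImplicit false
set_option backward.isDefEq.respectTransparency false

noncomputable section

universe u

open CategoryTheory CategoryTheory.Limits MonoidalCategory CartesianMonoidalCategory AlgebraicGeometry
open scoped MonObj

namespace Groth.Agent.Transporter

variable {S : Scheme.{u}} {H G : Over S} [GrpObj H] [GrpObj G]

/-- A monomorphism of groups from a group of multiplicative type to an affine group is a closed immersion. -/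
theorem isClosedImmersion_of_mono
    (hH : TwC.Locally S TwC.Topology.fpqc (fun S' f => ∃ (M : Type) (_ : AddCommGroup M),
      Nonempty (Grp.mk (Red.bc f H) ≅ Grp.mk (Red.DS S' M))))
    (hG : IsAffineHom G.hom) (i : H ⟶ G) [IsMonHom i] [Mono i] : IsClosedImmersion i.left := by
  let act : H ⊗ G ⟶ G := (fst H G ≫ i) * snd H G
  have hact : ∀ {Y : Over S} (h : Y ⟶ H) (x : Y ⟶ G), lift h x ≫ act = (h ≫ i) * x := fun h x => by
    simp only [act, MonObj.comp_mul, lift_fst_assoc, lift_snd]
  let a : AlgGrp.Action H G :=
    { act := act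
      one_act := by
        rw [show (η[H] ▷ G) ≫ act = lift ((fst _ G) ≫ η[H]) (snd _ G) ≫ act by
          congr 1, hact]
        rw [Category.assoc, IsMonHom.one_hom, show fst (𝟙_ (Over S)) G ≫ η[G] = 1 by
          rw [MonObj.one_eq_one, MonObj.comp_one], one_mul]
        try rfl
      mul_act := by
        rw [show (μ[H] ▷ G) ≫ act = lift (fst _ G ≫ μ[H]) (snd _ G) ≫ act by congr 1,
          show (α_ H H G).hom ≫ (H ◁ act) ≫ act = lift ((α_ H H G).hom ≫ fst _ _)
            ((α_ H H G).hom ≫ snd _ _ ≫ act) ≫ act by
            rw [← Category.assoc ((α_ H H G).hom)]; congr 1; ext <;> simp, hact, hact]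
        rw [MonObj.mul_eq_mul H, Category.assoc]
        simp only [act, MonObj.comp_mul, MonObj.mul_comp, Category.assoc, associator_hom_fst_assoc,
          associator_hom_snd_fst_assoc, associator_hom_snd_snd, mul_assoc] }
  have hfree : ∀ (Y : Over S) (g : Y ⟶ H) (x : Y ⟶ G), lift g x ≫ a.act = x → g = 1 := fun Y g x h => by
    have h1 : (g ≫ i) * x = x := (hact g x).symm.trans h
    rw [← cancel_mono i, MonObj.one_comp]
    exact mul_eq_right.1 h1
  have h := FreeAct.isClosedImmersion_orbitMap hG a (FreeAct.isClosedImmersion_graph hH hG a hfree) η[G]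
  have e : a.orbitMap η[G] = i := by
    show lift (𝟙 H) (toUnit H ≫ η[G]) ≫ act = i
    rw [hact, Category.id_comp, MonObj.one_eq_one, MonObj.comp_one, mul_one]
  rwa [e] at h

end Groth.Agent.Transporter
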