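import Groth.Agent.TransporterLib.SubSmooth
import Groth.Agent.TransporterLib.ClosedImm
import Groth.Agent.MultEqLib.Props
import Groth.Agent.AlgSpLib.FlatEq

/-!
Transporters of subgroups of multiplicative type and finite type in smooth affine groups.
-/

set_option autoImplicit false
set_option backward.isDefEq.respectTransparency false

noncomputable section

universe u

open CategoryTheory CategoryTheory.Limits MonoidalCategory CartesianMonoidalCategory AlgebraicGeometry
open scoped MonObj

namespace Groth.Agent.Transporter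

variable {S : Scheme.{u}}

theorem locally_of_isMultTypeFT {H : Over S} [GrpObj H] (hH : SGA3x.IsMultTypeFT H) :
    TwC.Locally S TwC.Topology.fpqc (fun S' f => ∃ (M : Type) (_ : AddCommGroup M),
      Nonempty (Grp.mk (Red.bc f H) ≅ Grp.mk (Red.DS S' M))) := by
  obtain ⟨S', f, hflat, hsurj, hcov, hloc⟩ := hH
  refine ⟨S', f, hflat, hsurj, hcov, fun x => ?_⟩
  obtain ⟨U, hU, M, hM, -, he⟩ := hloc x
  exact ⟨U, hU, M, hM, he⟩

/-- The transporter of two subgroups of multiplicative type in a smooth affine group. -/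
theorem exists_smooth_subgroupTransporter {H H' G : Over S} [GrpObj H] [GrpObj H'] [GrpObj G]
    (hH : SGA3x.IsMultTypeFT H) (hH' : SGA3x.IsMultTypeFT H') (hG : Smooth G.hom) (hGa : IsAffineHom G.hom)
    (i : H ⟶ G) [IsMonHom i] [Mono i] (i' : H' ⟶ G) [IsMonHom i'] [Mono i'] :
    ∃ (T : Over S) (j : T ⟶ G), IsClosedImmersion j.left ∧ Smooth T.hom ∧
      ∀ (X : Over S) (g : X ⟶ G), (∃ t : X ⟶ T, t ≫ j = g) ↔ ConjPts i i' g := by
  haveI := hG
  haveI := hGa
  have h₁ := locally_of_isMultTypeFT hH
  have h₂ := locally_of_isMultTypeFT hH'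
  haveI := isClosedImmersion_of_mono h₁ hGa i
  haveI := isClosedImmersion_of_mono h₂ hGa i'
  haveI := MultEq.lfp_of_isMultTypeFT hH
  haveI := MultEq.lfp_of_isMultTypeFT hH'
  haveI : LocallyOfFinitePresentation i.left := by
    haveI : LocallyOfFinitePresentation (i.left ≫ G.hom) := by rw [Over.w i]; infer_instance
    exact AlgSpLib.lfp_of_comp_lft i.left G.hom
  haveI : LocallyOfFinitePresentation i'.left := by
    haveI : LocallyOfFinitePresentation (i'.left ≫ G.hom) := by rw [Over.w i']; infer_instance
    exact AlgSpLib.lfp_of_comp_lft i'.left G.hom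
  obtain ⟨T, j, hj, hfp, hT⟩ := exists_subgroupTransporter h₁ h₂ i i'
  haveI := hj
  haveI := hfp
  haveI : LocallyOfFinitePresentation T.hom := by
    rw [← Over.w j]
    infer_instance
  exact ⟨T, j, hj, smooth_subgroupTransporter h₁ h₂ hG i i' j hT, hT⟩

end Groth.Agent.Transporter
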