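import Groth.Agent.TransporterLib.Main
import Groth.Agent.S5273
import Groth.Agent.MultEqLib.Props

/-!
Smoothness of transporters of homomorphisms from groups of multiplicative type into smooth groups.
-/

set_option autoImplicit false
set_option backward.isDefEq.respectTransparency false

noncomputable section

universe u

open CategoryTheory CategoryTheory.Limits MonoidalCategory CartesianMonoidalCategory AlgebraicGeometry CoactBr
open scoped MonObj

namespace Groth.Agent.Transporter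

attribute [local instance] CoactBr.braidedAlgSpecOf

variable {S : Scheme.{u}} {H G : Over S} [GrpObj H] [GrpObj G]

theorem locally_bc {T : Scheme.{u}} (p : T ⟶ S)
    (hH : TwC.Locally S TwC.Topology.fpqc (fun S' f => ∃ (M : Type) (_ : AddCommGroup M),
      Nonempty (Grp.mk (Red.bc f H) ≅ Grp.mk (Red.DS S' M)))) :
    TwC.Locally T TwC.Topology.fpqc (fun S' f => ∃ (M : Type) (_ : AddCommGroup M),
      Nonempty (Grp.mk (Red.bc f (Red.bc p H)) ≅ Grp.mk (Red.DS S' M))) := by
  obtain ⟨S', f, hflat, hsurj, hcov, hloc⟩ := hH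
  haveI := hflat
  haveI := hsurj
  refine ⟨pullback p f, pullback.fst p f, inferInstance, inferInstance, DescHom.hcov_pullback_snd f p hcov,
    fun z => ?_⟩
  obtain ⟨U, hU, M, hM, ⟨e⟩⟩ := hloc (pullback.snd p f z)
  refine ⟨(pullback.snd p f) ⁻¹ᵁ U, hU, M, hM,
    DescHom.nonempty_iso_bc e p _ ((pullback.snd p f).resLE U _ le_rfl) ?_⟩
  rw [Scheme.Hom.resLE_comp_ι_assoc, Category.assoc, pullback.condition]

/-- A transporter into a smooth group is smooth. -/
theorem smooth_transporter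
    (hH : TwC.Locally S TwC.Topology.fpqc (fun S' f => ∃ (M : Type) (_ : AddCommGroup M),
      Nonempty (Grp.mk (Red.bc f H) ≅ Grp.mk (Red.DS S' M))))
    (hG : Smooth G.hom) (u₁ u₂ : H ⟶ G) [IsMonHom u₁] [IsMonHom u₂] {T : Over S} (j : T ⟶ G) [Mono j.left]
    [LocallyOfFinitePresentation T.hom]
    (hT : ∀ (X : Over S) (g : X ⟶ G), (∃ t : X ⟶ T, t ≫ j = g) ↔
      ∀ (X' : Over S) (x : X' ⟶ X) (h : X' ⟶ H), (x ≫ g) * (h ≫ u₁) * (x ≫ g)⁻¹ = h ≫ u₂) :
    Smooth T.hom := by
  haveI := hG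
  refine (HasRingHomProperty.iff_appLE (P := @Smooth)).2 fun U V e => ?_
  have hfp := (HasRingHomProperty.iff_appLE (P := @LocallyOfFinitePresentation)).1 inferInstance U V e
  let φ := T.hom.appLE U.1 V.1 e
  letI : Algebra Γ(S, U.1) Γ(T.left, V.1) := φ.hom.toAlgebra
  haveI : Algebra.FinitePresentation Γ(S, U.1) Γ(T.left, V.1) := hfp
  haveI : IsOpenImmersion U.2.fromSpec := IsAffineOpen.isOpenImmersion_fromSpec U.2
  haveI : IsOpenImmersion V.2.fromSpec := IsAffineOpen.isOpenImmersion_fromSpec V.2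
  suffices hfs : Algebra.FormallySmooth Γ(S, U.1) Γ(T.left, V.1) from ⟨inferInstance, inferInstance⟩
  refine Algebra.FormallySmooth.of_comp_surjective fun C _ _ I hI L => ?_
  let mkI : CommRingCat.of C ⟶ CommRingCat.of (C ⧸ I) := CommRingCat.ofHom (Ideal.Quotient.mk I)
  let p : Spec (CommRingCat.of C) ⟶ S :=
    Spec.map (CommRingCat.ofHom (algebraMap Γ(S, U.1) C)) ≫ U.2.fromSpec
  let τ₀ : Spec (CommRingCat.of (C ⧸ I)) ⟶ T.left := Spec.map (CommRingCat.ofHom L.toRingHom) ≫ V.2.fromSpec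
  have hτ : τ₀ ≫ T.hom = Spec.map mkI ≫ p := by
    show (Spec.map _ ≫ V.2.fromSpec) ≫ T.hom = _
    rw [Category.assoc, ← IsAffineOpen.SpecMap_appLE_fromSpec T.hom U.2 V.2 e, ← Category.assoc, ← Spec.map_comp,
      ← Category.assoc (Spec.map mkI), ← Spec.map_comp]
    exact congrArg (fun r => Spec.map r ≫ U.2.fromSpec) (CommRingCat.hom_ext L.comp_algebraMap)
  let adj := Over.mapPullbackAdj p
  let u₁' : Red.bc p H ⟶ Red.bc p G := (Over.pullback p).map u₁
  let u₂' : Red.bc p H ⟶ Red.bc p G := (Over.pullback p).map u₂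
  haveI : IsMonHom u₁' := DiagRep.isMonHom_bc_map p u₁
  haveI : IsMonHom u₂' := DiagRep.isMonHom_bc_map p u₂
  let Z₀ : Over (Spec (CommRingCat.of C)) := SqLift.S₀ I
  let t₀ : (Over.map p).obj Z₀ ⟶ T := Over.homMk τ₀ hτ
  let g₀ : Z₀ ⟶ Red.bc p G := adj.homEquiv Z₀ G (t₀ ≫ j)
  obtain ⟨g, hg1, hg⟩ := Groth.Agent.S5273.result I ⟨2, hI⟩ (Red.bc p H) (Red.bc p G) (locally_bc p hH)
    (inferInstanceAs (Smooth (pullback.snd G.hom p))) u₁' u₂' g₀ (fun X q h => by
      obtain ⟨h₀, rfl⟩ := (adj.homEquiv X H).surjective h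
      have h1 := (hT _ (t₀ ≫ j)).1 ⟨t₀, rfl⟩ _ ((Over.map p).map q) h₀
      rw [mul_inv_eq_iff_eq_mul] at h1
      have h2 := congrArg (adj.homEquiv X G) h1
      rw [AlgGrp.Action.homEquiv_mul, AlgGrp.Action.homEquiv_mul, adj.homEquiv_naturality_left,
        adj.homEquiv_naturality_right h₀ u₁, adj.homEquiv_naturality_right h₀ u₂] at h2
      exact ((mul_inv_eq_iff_eq_mul).2 h2).symm)
  let Y₁ : Over S := (Over.map p).obj (𝟙_ (Over (Spec (CommRingCat.of C))))
  let g' : Y₁ ⟶ G := (adj.homEquiv _ G).symm g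
  obtain ⟨t, ht⟩ := (hT Y₁ g').2 fun X' x h => by
    let X : Over (Spec (CommRingCat.of C)) := Over.mk x.left
    let ε : (Over.map p).obj X ⟶ X' := Over.homMk (𝟙 _) (by
      show 𝟙 _ ≫ X'.hom = x.left ≫ p
      rw [Category.id_comp, ← Over.w x]
      exact congrArg (x.left ≫ ·) (Category.id_comp p))
    haveI : IsIso ((Over.forget _).map ε) := inferInstanceAs (IsIso (𝟙 _))
    haveI : IsIso ε := isIso_of_reflects_iso _ (Over.forget _)
    have e' : ε ≫ x = (Over.map p).map (toUnit X) := by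
      refine Over.OverMorphism.ext ?_
      have ht : (toUnit X).left = X.hom := (Category.comp_id _).symm.trans (Over.w (toUnit _))
      show 𝟙 _ ≫ x.left = (toUnit X).left
      rw [ht, Category.id_comp]
      rfl
    rw [mul_inv_eq_iff_eq_mul, ← cancel_epi ε, MonObj.comp_mul, MonObj.comp_mul, ← Category.assoc ε x, e',
      ← Category.assoc, ← Category.assoc]
    refine (adj.homEquiv X G).injective ?_
    rw [AlgGrp.Action.homEquiv_mul, AlgGrp.Action.homEquiv_mul, adj.homEquiv_naturality_left, Equiv.apply_symm_apply,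
      adj.homEquiv_naturality_right (ε ≫ h) u₁, adj.homEquiv_naturality_right (ε ≫ h) u₂]
    have h1 := hg X (adj.homEquiv X H (ε ≫ h))
    exact (eq_mul_inv_iff_mul_eq.1 h1).symm
  have hres : Spec.map mkI ≫ t.left = τ₀ := by
    rw [← cancel_mono j.left, Category.assoc, show t.left ≫ j.left = g'.left from congrArg CommaMorphism.left ht]
    have h1 : (Over.map p).map (toUnit Z₀) ≫ g' = t₀ ≫ j := by
      rw [← adj.homEquiv_naturality_left_symm, hg1]
      exact Equiv.symm_apply_apply _ _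
    have h2 := congrArg CommaMorphism.left h1
    have ht : (toUnit Z₀).left = Spec.map mkI := (Category.comp_id _).symm.trans (Over.w (toUnit Z₀))
    refine Eq.trans ?_ h2
    show _ = (toUnit Z₀).left ≫ g'.left
    rw [ht]
  have hrange : Set.range t.left ⊆ Set.range V.2.fromSpec := by
    rintro _ ⟨c, rfl⟩
    obtain ⟨c', hc'⟩ : c ∈ Set.range (PrimeSpectrum.comap (Ideal.Quotient.mk I)) := by
      refine (Set.ext_iff.1 (range_comap_of_surjective _ _ Ideal.Quotient.mk_surjective) c).2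
        ((PrimeSpectrum.mem_zeroLocus _ _).2 fun a ha => ?_)
      rw [SetLike.mem_coe, Ideal.mk_ker] at ha
      have : a ^ 2 ∈ (⊥ : Ideal C) := hI ▸ Ideal.pow_mem_pow ha 2
      exact c.isPrime.mem_of_pow_mem 2 ((Submodule.mem_bot _).1 this ▸ zero_mem _)
    refine ⟨Spec.map (CommRingCat.ofHom L.toRingHom) c', ?_⟩
    rw [← hc']
    show τ₀ c' = (Spec.map mkI ≫ t.left) c'
    rw [hres]
  let l := IsOpenImmersion.lift V.2.fromSpec t.left hrange
  have hl : l ≫ V.2.fromSpec = t.left := IsOpenImmersion.lift_fac _ _ _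
  obtain ⟨ψ, hψ⟩ : ∃ ψ : Γ(T.left, V.1) ⟶ CommRingCat.of C, Spec.map ψ = l := Spec.map_surjective l
  have hw : t.left ≫ T.hom = p := by
    have := Over.w t
    exact this.trans (Category.id_comp p)
  have halg : φ ≫ ψ = CommRingCat.ofHom (algebraMap Γ(S, U.1) C) := by
    apply Spec.map_injective
    rw [← cancel_mono U.2.fromSpec, Spec.map_comp, Category.assoc,
      show Spec.map φ ≫ U.2.fromSpec = V.2.fromSpec ≫ T.hom from
        IsAffineOpen.SpecMap_appLE_fromSpec T.hom U.2 V.2 e, ← Category.assoc, hψ, hl, hw]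
  let Ψ : Γ(T.left, V.1) →ₐ[Γ(S, U.1)] C :=
    { ψ.hom with commutes' := fun r => ConcreteCategory.congr_hom halg r }
  refine ⟨Ψ, AlgHom.ext fun b => ?_⟩
  have h3 : ψ ≫ mkI = CommRingCat.ofHom L.toRingHom := by
    apply Spec.map_injective
    rw [← cancel_mono V.2.fromSpec, Spec.map_comp, Category.assoc, hψ, hl, hres]
  exact ConcreteCategory.congr_hom h3 b

end Groth.Agent.Transporter
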