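import Mathlib

/-!
Factorisations through closed immersions are local for flat surjective families.
-/

set_option autoImplicit false

universe u

open CategoryTheory CategoryTheory.Limits AlgebraicGeometry

namespace Groth.Agent.Transporter

theorem app_injective_of_flat_surjective {X Y : Scheme.{u}} (π : X ⟶ Y) [Flat π] [Surjective π] (U : Y.Opens) :
    Function.Injective (π.app U) := by
  intro a b hab
  refine TopCat.Presheaf.section_ext Y.sheaf U a b fun x hx => ?_
  obtain ⟨w, rfl⟩ := π.surjective x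
  have hinj : Function.Injective (π.stalkMap w) := by
    algebraize [(π.stalkMap w).hom]
    have : Module.FaithfullyFlat (Y.presheaf.stalk (π w)) (X.presheaf.stalk w) :=
      @Module.FaithfullyFlat.of_flat_of_isLocalHom _ _ _ _ _ _ _
        (Flat.stalkMap π w) (π.toLRSHom.prop w)
    exact ‹RingHom.FaithfullyFlat _›.injective
  refine hinj ?_
  erw [Scheme.Hom.germ_stalkMap_apply, Scheme.Hom.germ_stalkMap_apply]
  exact congrArg _ hab

theorem isIso_of_factor {X Y Z : Scheme.{u}} (c : Z ⟶ Y) [IsClosedImmersion c] (π : X ⟶ Y) [Flat π]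
    [Surjective π] (l : X ⟶ Z) (h : l ≫ c = π) : IsIso c := by
  refine IsClosedImmersion.isIso_iff_ker_eq_bot.2 (Scheme.IdealSheafData.ext (funext fun V => ?_))
  rw [Scheme.Hom.ker_apply, Scheme.IdealSheafData.ideal_bot, Pi.bot_apply, ← RingHom.injective_iff_ker_eq_bot]
  intro a b hab
  refine app_injective_of_flat_surjective π V.1 ?_
  subst h
  simp only [Scheme.Hom.comp_app]
  exact congrArg (fun t => (l.app (c ⁻¹ᵁ V.1)).hom t) hab

/-- Factorisations through closed immersions are local for flat surjective families. -/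
theorem exists_lift_of_family {K P Y : Scheme.{u}} (z : K ⟶ P) [IsClosedImmersion z] (a : Y ⟶ P)
    {ι : Type*} [Small.{u} ι] {Y' : ι → Scheme.{u}} (q : ∀ i, Y' i ⟶ Y) (hflat : ∀ i, Flat (q i))
    (hsurj : ∀ y : Y, ∃ i, y ∈ Set.range (q i)) (h : ∀ i, ∃ l : Y' i ⟶ K, l ≫ z = q i ≫ a) :
    ∃ l : Y ⟶ K, l ≫ z = a := by
  choose l hl using h
  let π : (∐ Y') ⟶ Y := Sigma.desc q
  haveI : Flat π := IsZariskiLocalAtSource.sigmaDesc hflat
  haveI : Surjective π := ⟨fun y => by
    obtain ⟨i, b, hb⟩ := hsurj y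
    refine ⟨Sigma.ι Y' i b, ?_⟩
    rw [← Scheme.Hom.comp_apply, Sigma.ι_desc]
    exact hb⟩
  have hw : Sigma.desc l ≫ z = π ≫ a := Sigma.hom_ext _ _ fun i => by
    rw [Sigma.ι_desc_assoc, Sigma.ι_desc_assoc, hl]
  haveI : IsIso (pullback.snd z a) := isIso_of_factor (pullback.snd z a) π (pullback.lift (Sigma.desc l) π hw)
    (pullback.lift_snd _ _ _)
  exact ⟨inv (pullback.snd z a) ≫ pullback.fst z a, by
    rw [Category.assoc, pullback.condition, IsIso.inv_hom_id_assoc]⟩

end Groth.Agent.Transporter
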