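import Groth.Agent.TransporterLib.Smooth
import Groth.Agent.ConjAvgLib.IsoGlue

/-!
Groups of multiplicative type over any base are commutative.
-/

set_option autoImplicit false
set_option backward.isDefEq.respectTransparency false

noncomputable section

universe u

open CategoryTheory CategoryTheory.Limits MonoidalCategory CartesianMonoidalCategory AlgebraicGeometry CoactBr
open scoped MonObj

namespace Groth.Agent.Transporter

attribute [local instance] CoactBr.braidedAlgSpecOf

variable {S : Scheme.{u}} {H : Over S} [GrpObj H]

/-- Groups of multiplicative type are commutative. -/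
theorem comm_of_locally_fpqc
    (hH : TwC.Locally S TwC.Topology.fpqc (fun S' f => ∃ (M : Type) (_ : AddCommGroup M),
      Nonempty (Grp.mk (Red.bc f H) ≅ Grp.mk (Red.DS S' M)))) : ConjAvg.Comm H := by
  intro X a b
  refine Over.OverMorphism.ext (Scheme.Cover.hom_ext X.left.affineCover _ _ fun k => ?_)
  haveI : IsAffine (X.left.affineCover.X k) := inferInstance
  refine (cancel_epi (X.left.affineCover.X k).isoSpec.inv).1 ?_
  let F : Type u := Γ(X.left.affineCover.X k, ⊤)
  let c : Spec (CommRingCat.of F) ⟶ X.left := (X.left.affineCover.X k).isoSpec.inv ≫ X.left.affineCover.f k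
  let p : Spec (CommRingCat.of F) ⟶ S := c ≫ X.hom
  let U : Over (Spec (CommRingCat.of F)) := Over.mk (𝟙 _)
  let ε : (Over.map p).obj U ⟶ X := Over.homMk c (Category.id_comp p).symm
  have h := ConjAvg.comm_of_locally (locally_bc p hH) U ((Over.mapPullbackAdj p).homEquiv U H (ε ≫ a))
    ((Over.mapPullbackAdj p).homEquiv U H (ε ≫ b))
  rw [← AlgGrp.Action.homEquiv_mul, ← AlgGrp.Action.homEquiv_mul] at h
  have h' := (Over.mapPullbackAdj p).homEquiv U H |>.injective h
  rw [← MonObj.comp_mul, ← MonObj.comp_mul] at h'
  have h'' : c ≫ (a * b).left = c ≫ (b * a).left := congrArg CommaMorphism.left h'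
  exact (Category.assoc _ _ _).symm.trans (h''.trans (Category.assoc _ _ _))

end Groth.Agent.Transporter
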