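import Groth.Agent.TransporterLib.Sub
import Groth.Agent.DescHomLib.MultBC

/-!
Transporters of groups of multiplicative type into closed subschemes.
-/

set_option autoImplicit false
set_option backward.isDefEq.respectTransparency false

noncomputable section

universe u

open CategoryTheory CategoryTheory.Limits MonoidalCategory CartesianMonoidalCategory AlgebraicGeometry CoactBr
open scoped MonObj

namespace Groth.Agent.Transporter

attribute [local instance] CoactBr.braidedAlgSpecOf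

variable {S : Scheme.{u}} {H K G : Over S} [GrpObj H] [GrpObj G]

theorem exists_ideal_subAffine
    (hH : TwC.Locally S TwC.Topology.fpqc (fun S' f => ∃ (M : Type) (_ : AddCommGroup M),
      Nonempty (Grp.mk (Red.bc f H) ≅ Grp.mk (Red.DS S' M))))
    (u₁ : H ⟶ G) (z : K ⟶ G) [IsClosedImmersion z.left] [LocallyOfFinitePresentation z.left]
    (U : G.left.affineOpens) :
    ∃ I : Ideal Γ(G.left, U.1), I.FG ∧ HasIdeal (subPred u₁ z) U.2.fromSpec I := by
  classical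
  obtain ⟨S', f, hflat, hsurj, hcov, hloc⟩ := hH
  haveI := hflat
  haveI := hsurj
  haveI : IsOpenImmersion U.2.fromSpec := IsAffineOpen.isOpenImmersion_fromSpec U.2
  let v := U.2.fromSpec
  let π := pullback.fst (v ≫ G.hom) f
  let σ := pullback.snd (v ≫ G.hom) f
  obtain ⟨W, hW, hWU⟩ := DescHom.hcov_pullback_snd f (v ≫ G.hom) hcov ⊤ (isAffineOpen_top _)
  have hex : ∀ y : ↥(pullback (v ≫ G.hom) f), ∃ (V : S'.Opens) (M : Type) (_ : AddCommGroup M)
      (_ : Grp.mk (Red.bc (V.ι ≫ f) H) ≅ Grp.mk (Red.DS (V : Scheme.{u}) M)) (T : (pullback (v ≫ G.hom) f).Opens),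
      IsAffineOpen T ∧ y ∈ T ∧ T ≤ σ ⁻¹ᵁ V := by
    intro y
    obtain ⟨V, hV, M, hM, ⟨e⟩⟩ := hloc (σ y)
    obtain ⟨T, hT, hyT, hTV⟩ := exists_isAffineOpen_mem_and_subset (x := y) (U := σ ⁻¹ᵁ V) hV
    exact ⟨V, M, hM, e, T, hT, hyT, hTV⟩
  choose V M hM e T hT hyT hTV using hex
  obtain ⟨s, hs⟩ := hW.elim_finite_subcover (fun y => ((T y : (pullback (v ≫ G.hom) f).Opens) : Set ↥(pullback (v ≫ G.hom) f)))
    (fun y => (T y).isOpen) fun y _ => Set.mem_iUnion.2 ⟨y, hyT y⟩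
  let B : ↥s → CommRingCat.{u} := fun k => Γ((T k.1 : Scheme.{u}), ⊤)
  haveI : ∀ k : ↥s, IsAffine (T k.1 : Scheme.{u}) := fun k => hT k.1
  have hψ : ∀ k : ↥s, ∃ ψ : Γ(G.left, U.1) ⟶ B k,
      Spec.map ψ = (T k.1 : Scheme.{u}).isoSpec.inv ≫ (T k.1).ι ≫ π := fun k => Spec.map_surjective _
  choose ψ hψ using hψ
  refine exists_ideal_of_family (subPred u₁ z) v B ψ (fun k => ?_) (fun q => ?_) fun k => ?_
  · rw [hψ]
    haveI : Flat π := inferInstanceAs (Flat (pullback.fst (v ≫ G.hom) f))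
    infer_instance
  · have hq : q ∈ π.base '' (W : Set ↥(pullback (v ≫ G.hom) f)) := by
      rw [hWU]
      trivial
    obtain ⟨y, hy, hyq⟩ := hq
    obtain ⟨z, hz⟩ := Set.mem_iUnion.1 (hs hy)
    obtain ⟨hzs, hyz⟩ := Set.mem_iUnion.1 hz
    haveI : IsAffine (T z : Scheme.{u}) := hT z
    refine ⟨⟨z, hzs⟩, (T z : Scheme.{u}).isoSpec.hom ⟨y, hyz⟩, ?_⟩
    rw [hψ, ← Scheme.Hom.comp_apply, Iso.hom_inv_id_assoc]
    exact hyq
  · letI := hM k.1
    obtain ⟨w, hw⟩ := MultLift.exists_split_iso (R := (B k : Type u)) (e k.1)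
      ((T k.1 : Scheme.{u}).isoSpec.inv ≫ σ.resLE (V k.1) (T k.1) (hTV k.1))
      ((Spec.map (ψ k) ≫ v) ≫ G.hom) (by
        rw [hψ, Category.assoc, Scheme.Hom.resLE_comp_ι_assoc]
        simp only [Category.assoc, σ, π]
        exact congrArg (fun m => (T k.1 : Scheme.{u}).isoSpec.inv ≫ (T k.1).ι ≫ m) pullback.condition.symm)
    exact exists_ideal_subPiece (R := (B k : Type u)) u₁ z ((Spec.map (ψ k) ≫ v) ≫ G.hom) w (Spec.map (ψ k) ≫ v) rfl

/-- The locus of points conjugating a group of multiplicative type into a closed subscheme is closed, lfp. -/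
theorem exists_subTransporter
    (hH : TwC.Locally S TwC.Topology.fpqc (fun S' f => ∃ (M : Type) (_ : AddCommGroup M),
      Nonempty (Grp.mk (Red.bc f H) ≅ Grp.mk (Red.DS S' M))))
    (u₁ : H ⟶ G) (z : K ⟶ G) [IsClosedImmersion z.left] [LocallyOfFinitePresentation z.left] :
    ∃ (T : Over S) (j : T ⟶ G), IsClosedImmersion j.left ∧ LocallyOfFinitePresentation j.left ∧
      ∀ (X : Over S) (g : X ⟶ G), (∃ t : X ⟶ T, t ≫ j = g) ↔
        ∀ (X' : Over S) (x : X' ⟶ X) (h : X' ⟶ H), ∃ k : X' ⟶ K, k ≫ z = (x ≫ g) * (h ≫ u₁) * (x ≫ g)⁻¹ := by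
  obtain ⟨W, i, hcl, hfp, hi⟩ := exists_closed (subPred u₁ z) fun U => exists_ideal_subAffine hH u₁ z U
  refine ⟨Over.mk (i ≫ G.hom), Over.homMk i, hcl, hfp, fun X g => ⟨?_, fun h => ?_⟩⟩
  · rintro ⟨t, ht⟩ X' x h
    have hP : Enters u₁ z g.left := (hi _ _).1 ⟨t.left, congrArg CommaMorphism.left ht⟩
    exact hP X' (x ≫ g) h ⟨x.left, rfl⟩
  · obtain ⟨l, hl⟩ := (hi X.left g.left).2 fun Y g' y hx => by
      obtain ⟨x, hx⟩ := hx
      let x' : Y ⟶ X := Over.homMk x (by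
        rw [← Over.w g, ← Category.assoc, hx, Over.w g'])
      rw [show g' = x' ≫ g from Over.OverMorphism.ext hx.symm]
      exact h Y x' y
    exact ⟨Over.homMk l (by
      show l ≫ i ≫ G.hom = X.hom
      rw [← Category.assoc, hl, Over.w g]), Over.OverMorphism.ext hl⟩

/-- The two-sided transporter of two subgroups is closed and of finite presentation. -/
theorem exists_subgroupTransporter {H' : Over S} [GrpObj H']
    (hH : TwC.Locally S TwC.Topology.fpqc (fun S' f => ∃ (M : Type) (_ : AddCommGroup M),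
      Nonempty (Grp.mk (Red.bc f H) ≅ Grp.mk (Red.DS S' M))))
    (hH' : TwC.Locally S TwC.Topology.fpqc (fun S' f => ∃ (M : Type) (_ : AddCommGroup M),
      Nonempty (Grp.mk (Red.bc f H') ≅ Grp.mk (Red.DS S' M))))
    (i : H ⟶ G) (i' : H' ⟶ G) [IsClosedImmersion i.left] [LocallyOfFinitePresentation i.left]
    [IsClosedImmersion i'.left] [LocallyOfFinitePresentation i'.left] :
    ∃ (T : Over S) (j : T ⟶ G), IsClosedImmersion j.left ∧ LocallyOfFinitePresentation j.left ∧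
      ∀ (X : Over S) (g : X ⟶ G), (∃ t : X ⟶ T, t ≫ j = g) ↔
        ∀ (X' : Over S) (x : X' ⟶ X),
          (∀ h₁ : X' ⟶ H, ∃ h₂ : X' ⟶ H', (x ≫ g) * (h₁ ≫ i) * (x ≫ g)⁻¹ = h₂ ≫ i') ∧
          (∀ h₂ : X' ⟶ H', ∃ h₁ : X' ⟶ H, (x ≫ g)⁻¹ * (h₂ ≫ i') * (x ≫ g) = h₁ ≫ i) := by
  obtain ⟨T₁, j₁, hc₁, hf₁, h₁⟩ := exists_subTransporter hH i i'
  obtain ⟨T₂, j₂, hc₂, hf₂, h₂⟩ := exists_subTransporter hH' i' i
  haveI := hc₁; haveI := hf₁; haveI := hc₂; haveI := hf₂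
  let m : T₁ ⟶ G := j₁⁻¹
  let P := pullback m.left j₂.left
  let T : Over S := Over.mk (pullback.fst m.left j₂.left ≫ T₁.hom)
  let p₁ : T ⟶ T₁ := Over.homMk (pullback.fst _ _)
  let p₂ : T ⟶ T₂ := Over.homMk (pullback.snd _ _) (by
    show pullback.snd m.left j₂.left ≫ T₂.hom = pullback.fst m.left j₂.left ≫ T₁.hom
    rw [← Over.w m, pullback.condition_assoc, Over.w j₂])
  have hp : p₁ ≫ m = p₂ ≫ j₂ := Over.OverMorphism.ext pullback.condition
  refine ⟨T, p₁ ≫ j₁, inferInstanceAs (IsClosedImmersion (pullback.fst m.left j₂.left ≫ j₁.left)),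
    inferInstanceAs (LocallyOfFinitePresentation (pullback.fst m.left j₂.left ≫ j₁.left)), fun X g => ?_⟩
  constructor
  · rintro ⟨t, rfl⟩ X' x
    refine ⟨fun h => ?_, fun h => ?_⟩
    · obtain ⟨k, hk⟩ := (h₁ X (t ≫ p₁ ≫ j₁)).1 ⟨t ≫ p₁, Category.assoc _ _ _⟩ X' x h
      exact ⟨k, hk.symm⟩
    · obtain ⟨k, hk⟩ := (h₂ X (t ≫ p₁ ≫ j₁)⁻¹).1 ⟨t ≫ p₂, by
        rw [Category.assoc, ← hp, ← GrpObj.comp_inv, ← GrpObj.comp_inv]⟩ X' x h
      rw [GrpObj.comp_inv, inv_inv] at hk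
      exact ⟨k, hk.symm⟩
  · intro hg
    obtain ⟨t₁, ht₁⟩ := (h₁ X g).2 fun X' x h => by
      obtain ⟨k, hk⟩ := (hg X' x).1 h
      exact ⟨k, hk.symm⟩
    obtain ⟨t₂, ht₂⟩ := (h₂ X g⁻¹).2 fun X' x h => by
      obtain ⟨k, hk⟩ := (hg X' x).2 h
      refine ⟨k, ?_⟩
      rw [GrpObj.comp_inv, inv_inv]
      exact hk.symm
    have hc : t₁.left ≫ m.left = t₂.left ≫ j₂.left := by
      rw [← Over.comp_left, ← Over.comp_left, GrpObj.comp_inv, ht₁, ht₂]
    refine ⟨Over.homMk (pullback.lift t₁.left t₂.left hc) (by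
      show pullback.lift t₁.left t₂.left hc ≫ pullback.fst _ _ ≫ T₁.hom = X.hom
      rw [pullback.lift_fst_assoc, Over.w t₁]), Over.OverMorphism.ext ?_⟩
    show pullback.lift t₁.left t₂.left hc ≫ pullback.fst _ _ ≫ j₁.left = g.left
    rw [pullback.lift_fst_assoc, ← Over.comp_left, ht₁]

end Groth.Agent.Transporter
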