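import Groth.Agent.TransporterLib.Smooth
import Groth.Agent.TransporterLib.SubMain
import Groth.Agent.S5297
import Groth.Agent.TransporterLib.SubTop

/-!
Smoothness of transporters of groups of multiplicative type into subgroups.
-/

set_option autoImplicit false
set_option backward.isDefEq.respectTransparency false

noncomputable section

universe u

open CategoryTheory CategoryTheory.Limits MonoidalCategory CartesianMonoidalCategory AlgebraicGeometry CoactBr
open scoped MonObj

namespace Groth.Agent.Transporter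

attribute [local instance] CoactBr.braidedAlgSpecOf

variable {S : Scheme.{u}} {H H' G : Over S} [GrpObj G]

/-- Conjugation by the point carries the first subobject into the second, on all points. -/
def ConjIn (i : H ⟶ G) (i' : H' ⟶ G) {X : Over S} (g : X ⟶ G) : Prop :=
  ∀ (X' : Over S) (x : X' ⟶ X) (h₁ : X' ⟶ H), ∃ h₂ : X' ⟶ H', (x ≫ g) * (h₁ ≫ i) * (x ≫ g)⁻¹ = h₂ ≫ i'

/-- One-sided conjugation on points is compatible with base change. -/
theorem conjIn_bc {T : Scheme.{u}} (p : T ⟶ S) (i : H ⟶ G) (i' : H' ⟶ G) {Z : Over T}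
    (g : (Over.map p).obj Z ⟶ G) :
    ConjIn ((Over.pullback p).map i) ((Over.pullback p).map i') ((Over.mapPullbackAdj p).homEquiv Z G g) ↔
      ConjIn i i' g := by
  let adj := Over.mapPullbackAdj p
  have hinv : ∀ (X : Over T) (a : (Over.map p).obj X ⟶ G), adj.homEquiv X G a⁻¹ = (adj.homEquiv X G a)⁻¹ := fun X a =>
    map_inv (MonoidHom.mk' (adj.homEquiv X G) (fun a b => AlgGrp.Action.homEquiv_mul p a b)) a
  constructor
  · intro h X' x
    let X : Over T := Over.mk (x.left ≫ Z.hom)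
    let ε : (Over.map p).obj X ⟶ X' := Over.homMk (𝟙 _) (by
      show 𝟙 _ ≫ X'.hom = (x.left ≫ Z.hom) ≫ p
      rw [Category.id_comp, Category.assoc, ← Over.w x]
      rfl)
    haveI : IsIso ((Over.forget _).map ε) := inferInstanceAs (IsIso (𝟙 _))
    haveI : IsIso ε := isIso_of_reflects_iso _ (Over.forget _)
    let x₀ : X ⟶ Z := Over.homMk x.left
    have e' : ε ≫ x = (Over.map p).map x₀ := Over.OverMorphism.ext (Category.id_comp _)
    have hA := h X x₀
    intro h₁
    obtain ⟨k, hk⟩ := hA (adj.homEquiv X H (ε ≫ h₁))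
    obtain ⟨k₀, rfl⟩ := (adj.homEquiv X H').surjective k
    refine ⟨inv ε ≫ k₀, ?_⟩
    rw [← cancel_epi ε, Category.assoc (inv ε), IsIso.hom_inv_id_assoc, MonObj.comp_mul, MonObj.comp_mul,
      GrpObj.comp_inv, ← Category.assoc ε x, e', ← Category.assoc]
    refine (adj.homEquiv X G).injective ?_
    rw [AlgGrp.Action.homEquiv_mul, AlgGrp.Action.homEquiv_mul, hinv, adj.homEquiv_naturality_left,
      adj.homEquiv_naturality_right (ε ≫ h₁) i, adj.homEquiv_naturality_right k₀ i']
    exact hk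
  · intro h X x
    have hA := h _ ((Over.map p).map x)
    intro h₁
    obtain ⟨a, rfl⟩ := (adj.homEquiv X H).surjective h₁
    obtain ⟨k, hk⟩ := hA a
    refine ⟨adj.homEquiv X H' k, ?_⟩
    have h2 := congrArg (adj.homEquiv X G) hk
    rw [AlgGrp.Action.homEquiv_mul, AlgGrp.Action.homEquiv_mul, hinv, adj.homEquiv_naturality_left,
      adj.homEquiv_naturality_right a i, adj.homEquiv_naturality_right k i'] at h2
    exact h2

/-- The transporter into a subgroup of multiplicative type in a smooth group is smooth. -/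
theorem smooth_subTransporterLE [GrpObj H] [GrpObj H']
    (hH : TwC.Locally S TwC.Topology.fpqc (fun S' f => ∃ (M : Type) (_ : AddCommGroup M),
      Nonempty (Grp.mk (Red.bc f H) ≅ Grp.mk (Red.DS S' M))))
    (hH' : TwC.Locally S TwC.Topology.fpqc (fun S' f => ∃ (M : Type) (_ : AddCommGroup M),
      Nonempty (Grp.mk (Red.bc f H') ≅ Grp.mk (Red.DS S' M))))
    (hG : Smooth G.hom) (i : H ⟶ G) [IsMonHom i] [IsImmersion i.left] (i' : H' ⟶ G) [IsMonHom i']
    [IsImmersion i'.left] {T : Over S} (j : T ⟶ G) [Mono j.left] [LocallyOfFinitePresentation T.hom]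
    (hT : ∀ (X : Over S) (g : X ⟶ G), (∃ t : X ⟶ T, t ≫ j = g) ↔ ConjIn i i' g) :
    Smooth T.hom := by
  haveI := hG
  refine (HasRingHomProperty.iff_appLE (P := @Smooth)).2 fun U V e => ?_
  have hfp := (HasRingHomProperty.iff_appLE (P := @LocallyOfFinitePresentation)).1 inferInstance U V e
  let φ := T.hom.appLE U.1 V.1 e
  letI : Algebra Γ(S, U.1) Γ(T.left, V.1) := φ.hom.toAlgebra
  haveI : Algebra.FinitePresentation Γ(S, U.1) Γ(T.left, V.1) := hfp
  haveI : IsOpenImmersion U.2.fromSpec := IsAffineOpen.isOpenImmersion_fromSpec U.2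
  haveI : IsOpenImmersion V.2.fromSpec := IsAffineOpen.isOpenImmersion_fromSpec V.2
  suffices hfs : Algebra.FormallySmooth Γ(S, U.1) Γ(T.left, V.1) from ⟨inferInstance, inferInstance⟩
  refine Algebra.FormallySmooth.of_comp_surjective fun C _ _ I hI L => ?_
  let mkI : CommRingCat.of C ⟶ CommRingCat.of (C ⧸ I) := CommRingCat.ofHom (Ideal.Quotient.mk I)
  let p : Spec (CommRingCat.of C) ⟶ S :=
    Spec.map (CommRingCat.ofHom (algebraMap Γ(S, U.1) C)) ≫ U.2.fromSpec
  let τ₀ : Spec (CommRingCat.of (C ⧸ I)) ⟶ T.left := Spec.map (CommRingCat.ofHom L.toRingHom) ≫ V.2.fromSpec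
  have hτ : τ₀ ≫ T.hom = Spec.map mkI ≫ p := by
    show (Spec.map _ ≫ V.2.fromSpec) ≫ T.hom = _
    rw [Category.assoc, ← IsAffineOpen.SpecMap_appLE_fromSpec T.hom U.2 V.2 e, ← Category.assoc, ← Spec.map_comp,
      ← Category.assoc (Spec.map mkI), ← Spec.map_comp]
    exact congrArg (fun r => Spec.map r ≫ U.2.fromSpec) (CommRingCat.hom_ext L.comp_algebraMap)
  let adj := Over.mapPullbackAdj p
  let i₁ : Red.bc p H ⟶ Red.bc p G := (Over.pullback p).map i
  let i₂ : Red.bc p H' ⟶ Red.bc p G := (Over.pullback p).map i'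
  haveI : IsMonHom i₁ := DiagRep.isMonHom_bc_map p i
  haveI : IsMonHom i₂ := DiagRep.isMonHom_bc_map p i'
  haveI : IsImmersion i₁.left := MorphismProperty.baseChange_map (P := @IsImmersion) p i inferInstance
  haveI : IsImmersion i₂.left := MorphismProperty.baseChange_map (P := @IsImmersion) p i' inferInstance
  let Z₀ : Over (Spec (CommRingCat.of C)) := SqLift.S₀ I
  let t₀ : (Over.map p).obj Z₀ ⟶ T := Over.homMk τ₀ hτ
  let g₀ : Z₀ ⟶ Red.bc p G := adj.homEquiv Z₀ G (t₀ ≫ j)
  obtain ⟨g, hg1, hg⟩ := Groth.Agent.S5297.result I ⟨2, hI⟩ (Red.bc p G) (Red.bc p H') (Red.bc p H)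
    (inferInstanceAs (Smooth (pullback.snd G.hom p))) i₂ (Or.inr (locally_bc p hH')) (locally_bc p hH) i₁ g₀
    ((conjIn_bc p i i' (t₀ ≫ j)).2 ((hT _ _).1 ⟨t₀, rfl⟩))
  let Y₁ : Over S := (Over.map p).obj (𝟙_ (Over (Spec (CommRingCat.of C))))
  let g' : Y₁ ⟶ G := (adj.homEquiv _ G).symm g
  obtain ⟨t, ht⟩ := (hT Y₁ g').2 ((conjIn_bc p i i' g').1 (by
    rw [Equiv.apply_symm_apply]
    intro Z z h₁
    rw [toUnit_unique z (toUnit Z)]
    exact hg Z h₁))
  have hres : Spec.map mkI ≫ t.left = τ₀ := by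
    rw [← cancel_mono j.left, Category.assoc, show t.left ≫ j.left = g'.left from congrArg CommaMorphism.left ht]
    have h1 : (Over.map p).map (toUnit Z₀) ≫ g' = t₀ ≫ j := by
      rw [← adj.homEquiv_naturality_left_symm, hg1]
      exact Equiv.symm_apply_apply _ _
    have h2 := congrArg CommaMorphism.left h1
    have ht : (toUnit Z₀).left = Spec.map mkI := (Category.comp_id _).symm.trans (Over.w (toUnit Z₀))
    refine Eq.trans ?_ h2
    show _ = (toUnit Z₀).left ≫ g'.left
    rw [ht]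
  have hrange : Set.range t.left ⊆ Set.range V.2.fromSpec := by
    rintro _ ⟨c, rfl⟩
    obtain ⟨c', hc'⟩ : c ∈ Set.range (PrimeSpectrum.comap (Ideal.Quotient.mk I)) := by
      refine (Set.ext_iff.1 (range_comap_of_surjective _ _ Ideal.Quotient.mk_surjective) c).2
        ((PrimeSpectrum.mem_zeroLocus _ _).2 fun a ha => ?_)
      rw [SetLike.mem_coe, Ideal.mk_ker] at ha
      have : a ^ 2 ∈ (⊥ : Ideal C) := hI ▸ Ideal.pow_mem_pow ha 2
      exact c.isPrime.mem_of_pow_mem 2 ((Submodule.mem_bot _).1 this ▸ zero_mem _)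
    refine ⟨Spec.map (CommRingCat.ofHom L.toRingHom) c', ?_⟩
    rw [← hc']
    show τ₀ c' = (Spec.map mkI ≫ t.left) c'
    rw [hres]
  let l := IsOpenImmersion.lift V.2.fromSpec t.left hrange
  have hl : l ≫ V.2.fromSpec = t.left := IsOpenImmersion.lift_fac _ _ _
  obtain ⟨ψ, hψ⟩ : ∃ ψ : Γ(T.left, V.1) ⟶ CommRingCat.of C, Spec.map ψ = l := Spec.map_surjective l
  have hw : t.left ≫ T.hom = p := by
    have := Over.w t
    exact this.trans (Category.id_comp p)
  have halg : φ ≫ ψ = CommRingCat.ofHom (algebraMap Γ(S, U.1) C) := by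
    apply Spec.map_injective
    rw [← cancel_mono U.2.fromSpec, Spec.map_comp, Category.assoc,
      show Spec.map φ ≫ U.2.fromSpec = V.2.fromSpec ≫ T.hom from
        IsAffineOpen.SpecMap_appLE_fromSpec T.hom U.2 V.2 e, ← Category.assoc, hψ, hl, hw]
  let Ψ : Γ(T.left, V.1) →ₐ[Γ(S, U.1)] C :=
    { ψ.hom with commutes' := fun r => ConcreteCategory.congr_hom halg r }
  refine ⟨Ψ, AlgHom.ext fun b => ?_⟩
  have h3 : ψ ≫ mkI = CommRingCat.ofHom L.toRingHom := by
    apply Spec.map_injective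
    rw [← cancel_mono V.2.fromSpec, Spec.map_comp, Category.assoc, hψ, hl, hres]
  exact ConcreteCategory.congr_hom h3 b

end Groth.Agent.Transporter
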