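import Groth.Agent.TransporterLib.Ideal
import Groth.Agent.EssFreeLib.ClosedRes

/-!
Representability of a local condition by a closed subscheme of finite presentation.
-/

set_option autoImplicit false
set_option backward.isDefEq.respectTransparency false

noncomputable section

universe u

open CategoryTheory CategoryTheory.Limits AlgebraicGeometry
open scoped TensorProduct

namespace Groth.Agent.Transporter

/-- A condition on morphisms to a scheme which is local for flat surjective families. -/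
structure LocPred (X : Scheme.{u}) where
  /-- the condition -/
  P : ∀ {T : Scheme.{u}}, (T ⟶ X) → Prop
  comp : ∀ {T T' : Scheme.{u}} (g : T' ⟶ T) {t : T ⟶ X}, P t → P (g ≫ t)
  of_family : ∀ {T : Scheme.{u}} {t : T ⟶ X} {I : Type u} {T' : I → Scheme.{u}} (g : ∀ i, T' i ⟶ T),
    (∀ i, Flat (g i)) → (∀ x : T, ∃ i, x ∈ Set.range (g i)) → (∀ i, P (g i ≫ t)) → P t

variable {X : Scheme.{u}} (Q : LocPred X)

/-- The condition is cut out by the ideal. -/
def HasIdeal {A : CommRingCat.{u}} (u : Spec A ⟶ X) (I : Ideal A) : Prop :=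
  ∀ (C : CommRingCat.{u}) (φ : A ⟶ C), Q.P (Spec.map φ ≫ u) ↔ I ≤ RingHom.ker φ.hom

theorem mem_range_tensor {A C B : Type u} [CommRing A] [CommRing C] [Algebra A C] [CommRing B] [Algebra A B]
    (p : PrimeSpectrum C) (q : PrimeSpectrum B)
    (h : PrimeSpectrum.comap (algebraMap A B) q = PrimeSpectrum.comap (algebraMap A C) p) :
    p ∈ Set.range (PrimeSpectrum.comap (algebraMap C (C ⊗[A] B))) := by
  obtain ⟨z, hz, -⟩ := Scheme.Pullback.exists_preimage_pullback (f := Spec.map (CommRingCat.ofHom (algebraMap A C)))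
    (g := Spec.map (CommRingCat.ofHom (algebraMap A B))) p q h.symm
  obtain ⟨w, hw⟩ := (pullbackSpecIso A C B).inv.surjective z
  refine ⟨w, ?_⟩
  rw [← hz, ← hw, ← Scheme.Hom.comp_apply, pullbackSpecIso_inv_fst]
  rfl

/-- Being cut out by a finitely generated ideal is local for flat surjective families. -/
theorem exists_ideal_of_family {A : CommRingCat.{u}} (u : Spec A ⟶ X) {ι : Type u} [Finite ι]
    (B : ι → CommRingCat.{u}) (ψ : ∀ k, A ⟶ B k) (hfl : ∀ k, Flat (Spec.map (ψ k)))
    (hsurj : ∀ p : Spec A, ∃ k, p ∈ Set.range (Spec.map (ψ k)))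
    (hI : ∀ k, ∃ I : Ideal (B k), I.FG ∧ HasIdeal Q (Spec.map (ψ k) ≫ u) I) :
    ∃ I : Ideal A, I.FG ∧ HasIdeal Q u I := by
  choose I hfg hI using hI
  let alg : ∀ k, Algebra A (B k) := fun k => (ψ k).hom.toAlgebra
  haveI : ∀ k, Module.Flat A (B k) := fun k => (HasRingHomProperty.Spec_iff (P := @Flat)).1 (hfl k)
  have hψ : ∀ k, CommRingCat.ofHom (algebraMap A (B k)) = ψ k := fun k => rfl
  have hcut : ∀ (k : ι) (C : Type u) [CommRing C] [Algebra A C] (φ : B k →ₐ[A] C),
      Q.P (Spec.map (CommRingCat.ofHom (algebraMap A C)) ≫ u) ↔ I k ≤ RingHom.ker φ.toRingHom := by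
    intro k C _ _ φ
    rw [show CommRingCat.ofHom (algebraMap A C) = ψ k ≫ CommRingCat.ofHom φ.toRingHom from
      CommRingCat.hom_ext (φ.comp_algebraMap).symm, Spec.map_comp, Category.assoc]
    exact hI k _ (CommRingCat.ofHom φ.toRingHom)
  have hst : ∀ k l, (I k).map (Algebra.TensorProduct.includeLeft : B k →ₐ[A] B k ⊗[A] B l).toRingHom =
      (I l).map (Algebra.TensorProduct.includeRight : B l →ₐ[A] B k ⊗[A] B l).toRingHom := by
    intro k l
    let D := B k ⊗[A] B l
    let inl : B k →ₐ[A] D := Algebra.TensorProduct.includeLeft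
    let inr : B l →ₐ[A] D := Algebra.TensorProduct.includeRight
    have key : ∀ N : Ideal D, (I k).map inl.toRingHom ≤ N ↔ (I l).map inr.toRingHom ≤ N := by
      intro N
      have e : ∀ {k' : ι} (j : B k' →ₐ[A] D), (I k').map j.toRingHom ≤ N ↔
          Q.P (Spec.map (CommRingCat.ofHom (algebraMap A (D ⧸ N))) ≫ u) := by
        intro k' j
        rw [hcut k' (D ⧸ N) ((Ideal.Quotient.mkₐ A N).comp j), Ideal.map_le_iff_le_comap]
        refine forall₂_congr fun x _ => ?_
        show j x ∈ N ↔ Ideal.Quotient.mk N (j x) = 0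
        exact Ideal.Quotient.eq_zero_iff_mem.symm
      exact (e inl).trans (e inr).symm
    exact le_antisymm ((key _).2 le_rfl) ((key _).1 le_rfl)
  obtain ⟨J, hJfg, hJ⟩ := exists_fg_map_eq (fun k => B k) I hst hfg
  refine ⟨J, hJfg, fun C φ => ?_⟩
  letI : Algebra A C := φ.hom.toAlgebra
  have hC : ∀ k, Spec.map (CommRingCat.ofHom (Algebra.TensorProduct.includeLeftRingHom :
      (C : Type u) →+* C ⊗[A] B k)) ≫ Spec.map φ ≫ u =
      Spec.map (CommRingCat.ofHom (algebraMap A ((C : Type u) ⊗[A] B k))) ≫ u := fun k => by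
    rw [← Category.assoc, ← Spec.map_comp]
    rfl
  constructor
  · intro h a ha
    refine eq_zero_of_family (A := C) (fun k => (C : Type u) ⊗[A] B k) (fun p => ?_) fun k => ?_
    · obtain ⟨k, q, hq⟩ := hsurj (PrimeSpectrum.comap φ.hom p)
      have : p ∈ Set.range (PrimeSpectrum.comap (algebraMap C ((C : Type u) ⊗[A] B k))) := by
        exact mem_range_tensor (A := A) (C := C) (B := B k) p q hq
      exact ⟨k, this⟩
    · have h1 := (hcut k _ (Algebra.TensorProduct.includeRight : B k →ₐ[A] (C : Type u) ⊗[A] B k)).1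
        (hC k ▸ Q.comp _ h)
      have h2 : algebraMap A (B k) a ∈ I k := hJ k ▸ Ideal.mem_map_of_mem _ ha
      have h3 := h1 h2
      rw [RingHom.mem_ker] at h3
      show φ.hom a ⊗ₜ[A] (1 : B k) = 0
      refine Eq.trans ?_ h3
      show _ = (1 : C) ⊗ₜ[A] algebraMap A (B k) a
      rw [Algebra.algebraMap_eq_smul_one, ← TensorProduct.smul_tmul, ← Algebra.algebraMap_eq_smul_one]
      rfl
  · intro h
    refine Q.of_family (fun k => Spec.map (CommRingCat.ofHom (Algebra.TensorProduct.includeLeftRingHom :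
      (C : Type u) →+* C ⊗[A] B k))) (fun k => ?_) (fun p => ?_) fun k => ?_
    · exact (HasRingHomProperty.Spec_iff (P := @Flat)).2
        (RingHom.flat_algebraMap_iff.2 (inferInstanceAs (Module.Flat C ((C : Type u) ⊗[A] B k))))
    · obtain ⟨k, q, hq⟩ := hsurj (PrimeSpectrum.comap φ.hom p)
      exact ⟨k, mem_range_tensor (A := A) (C := C) (B := B k) p q hq⟩
    · rw [hC k, hcut k _ (Algebra.TensorProduct.includeRight : B k →ₐ[A] (C : Type u) ⊗[A] B k), ← hJ k,
        Ideal.map_le_iff_le_comap]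
      intro a ha
      show (1 : C) ⊗ₜ[A] algebraMap A (B k) a = 0
      rw [Algebra.algebraMap_eq_smul_one, ← TensorProduct.smul_tmul, ← Algebra.algebraMap_eq_smul_one,
        show algebraMap A C a = 0 from h ha, TensorProduct.zero_tmul]

/-- A condition cut out on every affine open by a finitely generated ideal is represented by a closed subscheme. -/
theorem exists_closed (hQ : ∀ U : X.affineOpens, ∃ I : Ideal Γ(X, U.1), I.FG ∧ HasIdeal Q U.2.fromSpec I) :
    ∃ (W : Scheme.{u}) (i : W ⟶ X), IsClosedImmersion i ∧ LocallyOfFinitePresentation i ∧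
      ∀ (T : Scheme.{u}) (t : T ⟶ X), (∃ g : T ⟶ W, g ≫ i = t) ↔ Q.P t := by
  classical
  choose I hfg hI using hQ
  let 𝓘 : X.IdealSheafData :=
    { ideal := I
      map_ideal_basicOpen := fun U f => by
        let ρ := X.presheaf.map (homOfLE (X.basicOpen_le f)).op
        have hρ : Spec.map ρ ≫ U.2.fromSpec = (X.affineBasicOpen f).2.fromSpec :=
          IsAffineOpen.map_fromSpec _ (X.affineBasicOpen f).2 _
        apply le_antisymm
        · rw [Ideal.map_le_iff_le_comap]
          let mk := CommRingCat.ofHom (Ideal.Quotient.mk (I (X.affineBasicOpen f)))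
          have h := (hI U _ (ρ ≫ mk)).1 (by
            rw [Spec.map_comp, Category.assoc, hρ]
            exact (hI _ _ mk).2 fun c hc => Ideal.Quotient.eq_zero_iff_mem.2 hc)
          exact fun c hc => (Ideal.Quotient.eq_zero_iff_mem (I := I (X.affineBasicOpen f))).1 (h hc)
        · let mk := CommRingCat.ofHom (Ideal.Quotient.mk ((I U).map ρ.hom))
          have h := (hI (X.affineBasicOpen f) _ mk).1 (by
            rw [← hρ]
            have h' := (hI U _ (ρ ≫ mk)).2 fun c hc => Ideal.Quotient.eq_zero_iff_mem.2 (Ideal.mem_map_of_mem _ hc)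
            rw [Spec.map_comp, Category.assoc] at h'
            exact h')
          exact fun c hc => Ideal.Quotient.eq_zero_iff_mem.1 (h hc) }
  have hlfp : LocallyOfFinitePresentation 𝓘.subschemeι := by
    refine IsZariskiLocalAtSource.of_openCover 𝓘.subschemeCover.openCover fun U => ?_
    show LocallyOfFinitePresentation (𝓘.subschemeCover.f U ≫ 𝓘.subschemeι)
    rw [Scheme.IdealSheafData.subschemeCover_map_subschemeι, Scheme.IdealSheafData.glueDataObjι_ι]
    haveI : IsOpenImmersion U.2.fromSpec := IsAffineOpen.isOpenImmersion_fromSpec U.2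
    haveI : LocallyOfFinitePresentation (Spec.map (CommRingCat.ofHom (Ideal.Quotient.mk (𝓘.ideal U)))) := by
      rw [HasRingHomProperty.Spec_iff (P := @LocallyOfFinitePresentation)]
      exact RingHom.FinitePresentation.of_surjective _ Ideal.Quotient.mk_surjective
        ((Ideal.mk_ker (I := 𝓘.ideal U)).symm ▸ hfg U)
    infer_instance
  refine ⟨𝓘.subscheme, 𝓘.subschemeι, inferInstance, hlfp, fun T t => ⟨?_, fun ht => ?_⟩⟩
  · rintro ⟨g, rfl⟩
    refine Q.comp g ?_
    refine Q.of_family (fun U : X.affineOpens => 𝓘.subschemeCover.f U) (fun U => inferInstance)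
      (fun p => ?_) fun U => ?_
    · obtain ⟨y, hy⟩ := 𝓘.subschemeCover.covers p
      exact ⟨_, y, hy⟩
    · rw [Scheme.IdealSheafData.subschemeCover_map_subschemeι, Scheme.IdealSheafData.glueDataObjι_ι]
      exact (hI U _ _).2 fun c hc => Ideal.Quotient.eq_zero_iff_mem.2 hc
  · refine EssFree.exists_factor_of_local 𝓘.subschemeι t fun p => ?_
    obtain ⟨U, hU, hpU, -⟩ := exists_isAffineOpen_mem_and_subset (x := t p) (U := ⊤) trivial
    obtain ⟨W, hW, hpW, hWU⟩ := exists_isAffineOpen_mem_and_subset (x := p) (U := t ⁻¹ᵁ U) hpU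
    refine ⟨W, hpW, ?_⟩
    have hφ : hW.fromSpec ≫ t = Spec.map (t.appLE U W hWU) ≫ hU.fromSpec :=
      (IsAffineOpen.SpecMap_appLE_fromSpec t hU hW hWU).symm
    have hker := (hI ⟨U, hU⟩ _ (t.appLE U W hWU)).1 (hφ ▸ Q.comp hW.fromSpec ht)
    refine ⟨hW.isoSpec.hom ≫ Spec.map (CommRingCat.ofHom (Ideal.Quotient.lift (I ⟨U, hU⟩) (t.appLE U W hWU).hom
      fun c hc => hker hc)) ≫ 𝓘.subschemeCover.f ⟨U, hU⟩, ?_⟩
    rw [show W.ι = hW.isoSpec.hom ≫ hW.fromSpec by rw [IsAffineOpen.fromSpec, Iso.hom_inv_id_assoc]]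
    simp only [Category.assoc, hφ]
    congr 1
    refine Eq.trans (congrArg (_ ≫ ·) ((𝓘.subschemeCover_map_subschemeι ⟨U, hU⟩).trans (𝓘.glueDataObjι_ι ⟨U, hU⟩))) ?_
    show _ ≫ Spec.map _ ≫ hU.fromSpec = _
    rw [← Category.assoc, ← Spec.map_comp]
    rfl

end Groth.Agent.Transporter
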