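import Mathlib

/-!
Descent of ideals along finite flat jointly surjective families of algebras.
-/

set_option autoImplicit false

noncomputable section

universe u

open scoped TensorProduct

namespace Groth.Agent.Transporter

variable {A : Type u} [CommRing A]

/-- An element which dies in a jointly surjective family of flat algebras is zero. -/
theorem eq_zero_of_family {ι : Type*} (B : ι → Type u) [∀ k, CommRing (B k)] [∀ k, Algebra A (B k)]
    [∀ k, Module.Flat A (B k)] (hsurj : ∀ p : PrimeSpectrum A, ∃ k, p ∈ Set.range (PrimeSpectrum.comap (algebraMap A (B k))))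
    {c : A} (h : ∀ k, algebraMap A (B k) c = 0) : c = 0 := by
  by_contra hc
  let f : A →ₗ[A] A := LinearMap.mulLeft A c
  have hne : LinearMap.ker f ≠ ⊤ := fun htop => hc (by
    have : (1 : A) ∈ LinearMap.ker f := htop ▸ trivial
    simpa [f] using this)
  obtain ⟨m, hm, hle⟩ := Ideal.exists_le_maximal (LinearMap.ker f) hne
  obtain ⟨k, q, hq⟩ := hsurj ⟨m, hm.isPrime⟩
  let g : (A ⧸ LinearMap.ker f) →ₗ[A] A := (LinearMap.ker f).liftQ f le_rfl
  have hg : Function.Injective g := by
    rw [← LinearMap.ker_eq_bot]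
    exact Submodule.ker_liftQ_eq_bot' _ f rfl
  have hinj := Module.Flat.lTensor_preserves_injective_linearMap (M := B k) g hg
  have h0 : (1 : B k) ⊗ₜ[A] (Submodule.Quotient.mk (1 : A) : A ⧸ LinearMap.ker f) = 0 := by
    apply hinj
    rw [map_zero, LinearMap.lTensor_tmul, Submodule.liftQ_apply]
    have : f 1 = c • (1 : A) := by simp [f]
    rw [this, ← TensorProduct.smul_tmul, Algebra.smul_def, h k, zero_mul, TensorProduct.zero_tmul]
  let I : Ideal A := LinearMap.ker f
  let t : B k ⊗[A] (A ⧸ I) →ₐ[A] (B k ⧸ I.map (algebraMap A (B k))) :=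
    Algebra.TensorProduct.lift (IsScalarTower.toAlgHom A (B k) _)
      (Ideal.Quotient.liftₐ I (Algebra.ofId A _) fun a ha => by
        rw [Algebra.ofId_apply, IsScalarTower.algebraMap_apply A (B k)]
        exact Ideal.Quotient.eq_zero_iff_mem.2 (Ideal.mem_map_of_mem _ ha)) fun _ _ => Commute.all _ _
  have h1 := congrArg t (show (1 : B k) ⊗ₜ[A] (Ideal.Quotient.mk I (1 : A)) = 0 from h0)
  rw [map_zero, ← Ideal.Quotient.mk_eq_mk, Ideal.Quotient.mk_eq_mk, map_one (Ideal.Quotient.mk I),
    ← Algebra.TensorProduct.one_def, map_one] at h1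
  have h1' : (1 : B k) ∈ I.map (algebraMap A (B k)) := Ideal.Quotient.eq_zero_iff_mem.1 (by rw [map_one]; exact h1)
  have h2 : I.map (algebraMap A (B k)) ≤ q.asIdeal := by
    refine Ideal.map_le_iff_le_comap.2 fun a ha => ?_
    have := hle ha
    rwa [show m = (PrimeSpectrum.comap (algebraMap A (B k)) q).asIdeal from
      (congrArg PrimeSpectrum.asIdeal hq).symm] at this
  exact q.isPrime.ne_top ((Ideal.eq_top_iff_one _).2 (h2 h1'))

variable {ι : Type u} [Finite ι] (B : ι → Type u) [∀ k, CommRing (B k)] [∀ k, Algebra A (B k)]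
  [∀ k, Module.Flat A (B k)] (I : ∀ k, Ideal (B k))

/-- A compatible family of ideals comes from the intersection of its traces. -/
theorem map_iInf_comap_eq
    (hst : ∀ k l, (I k).map (Algebra.TensorProduct.includeLeft : B k →ₐ[A] B k ⊗[A] B l).toRingHom =
      (I l).map (Algebra.TensorProduct.includeRight : B l →ₐ[A] B k ⊗[A] B l).toRingHom) (k : ι) :
    (⨅ l, (I l).comap (algebraMap A (B l))).map (algebraMap A (B k)) = I k := by
  cases nonempty_fintype ι
  let K : Ideal A := ⨅ l, (I l).comap (algebraMap A (B l))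
  refine le_antisymm (Ideal.map_le_iff_le_comap.2 (iInf_le _ k)) fun a ha => ?_
  let r : (A ⧸ K) →ₗ[A] ∀ l, B l ⧸ I l :=
    LinearMap.pi fun l => (Ideal.Quotient.liftₐ K (Algebra.ofId A (B l ⧸ I l)) fun x hx => by
      rw [Algebra.ofId_apply, IsScalarTower.algebraMap_apply A (B l)]
      exact Ideal.Quotient.eq_zero_iff_mem.2 (iInf_le (fun l => (I l).comap (algebraMap A (B l))) l hx)).toLinearMap
  have hr : Function.Injective r := by
    rw [injective_iff_map_eq_zero]
    intro x hx
    obtain ⟨x, rfl⟩ := Ideal.Quotient.mk_surjective x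
    refine Ideal.Quotient.eq_zero_iff_mem.2 ((Submodule.mem_iInf _).2 fun l => ?_)
    exact (Ideal.Quotient.eq_zero_iff_mem (I := I l)).1 (congrFun hx l)
  classical
  have hinj := Module.Flat.lTensor_preserves_injective_linearMap (M := B k) r hr
  have h0 : a ⊗ₜ[A] (1 : A ⧸ K) = 0 := by
    apply hinj
    apply (TensorProduct.piRight A A (B k) fun l => B l ⧸ I l).injective
    rw [map_zero, map_zero, LinearMap.lTensor_tmul, TensorProduct.piRight_apply, TensorProduct.piRightHom_tmul]
    funext l
    have h1 : a ⊗ₜ[A] (1 : B l) ∈ (I l).map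
        (Algebra.TensorProduct.includeRight : B l →ₐ[A] B k ⊗[A] B l).toRingHom := by
      rw [← hst k l]
      exact Ideal.mem_map_of_mem _ ha
    have h2 : (I l).map (Algebra.TensorProduct.includeRight : B l →ₐ[A] B k ⊗[A] B l).toRingHom ≤
        RingHom.ker (Algebra.TensorProduct.map (AlgHom.id A (B k)) (Ideal.Quotient.mkₐ A (I l))).toRingHom := by
      refine Ideal.map_le_iff_le_comap.2 fun y hy => ?_
      show Algebra.TensorProduct.map _ _ ((1 : B k) ⊗ₜ y) = 0
      rw [Algebra.TensorProduct.map_tmul, Ideal.Quotient.mkₐ_eq_mk, Ideal.Quotient.eq_zero_iff_mem.2 hy,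
        TensorProduct.tmul_zero]
    have h3 := h2 h1
    rw [RingHom.mem_ker] at h3
    simpa [r] using h3
  let t : B k ⊗[A] (A ⧸ K) →ₐ[A] (B k ⧸ K.map (algebraMap A (B k))) :=
    Algebra.TensorProduct.lift (IsScalarTower.toAlgHom A (B k) _)
      (Ideal.Quotient.liftₐ K (Algebra.ofId A _) fun x hx => by
        rw [Algebra.ofId_apply, IsScalarTower.algebraMap_apply A (B k)]
        exact Ideal.Quotient.eq_zero_iff_mem.2 (Ideal.mem_map_of_mem _ hx)) fun _ _ => Commute.all _ _
  have h1 := congrArg t h0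
  rw [map_zero, Algebra.TensorProduct.lift_tmul, map_one, mul_one] at h1
  exact Ideal.Quotient.eq_zero_iff_mem.1 h1

/-- A compatible family of finitely generated ideals is extended from one finitely generated ideal. -/
theorem exists_fg_map_eq
    (hst : ∀ k l, (I k).map (Algebra.TensorProduct.includeLeft : B k →ₐ[A] B k ⊗[A] B l).toRingHom =
      (I l).map (Algebra.TensorProduct.includeRight : B l →ₐ[A] B k ⊗[A] B l).toRingHom) (hfg : ∀ k, (I k).FG) :
    ∃ J : Ideal A, J.FG ∧ ∀ k, J.map (algebraMap A (B k)) = I k := by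
  classical
  cases nonempty_fintype ι
  let K : Ideal A := ⨅ l, (I l).comap (algebraMap A (B l))
  have hK : ∀ k, K.map (algebraMap A (B k)) = I k := map_iInf_comap_eq B I hst
  have hex : ∀ k, ∃ s : Finset A, (↑s : Set A) ⊆ K ∧ (Ideal.span (↑s : Set A)).map (algebraMap A (B k)) = I k := by
    intro k
    have h : (Ideal.span ((algebraMap A (B k)) '' (K : Set A))).FG := by
      have := hfg k
      rwa [← hK k, Ideal.map] at this
    obtain ⟨s, hsK, hs⟩ := Submodule.fg_span_iff_fg_span_finset_subset _ |>.1 h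
    choose g hgK hg using fun x : s => hsK x.2
    refine ⟨Finset.univ.image g, ?_, ?_⟩
    · intro x hx
      obtain ⟨y, -, rfl⟩ := Finset.mem_image.1 (Finset.mem_coe.1 hx)
      exact hgK y
    · rw [Ideal.map_span, ← hK k, Ideal.map]
      refine le_antisymm (Ideal.span_mono (Set.image_mono ?_)) ?_
      · intro x hx
        obtain ⟨y, -, rfl⟩ := Finset.mem_image.1 (Finset.mem_coe.1 hx)
        exact hgK y
      · show Submodule.span (B k) _ ≤ _
        rw [hs]
        refine Submodule.span_le.2 fun x hx => Ideal.subset_span ⟨g ⟨x, hx⟩, ?_, hg ⟨x, hx⟩⟩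
        simp
  choose s hsK hs using hex
  refine ⟨Ideal.span (↑(Finset.univ.biUnion s) : Set A), ⟨_, rfl⟩, fun k => le_antisymm ?_ ?_⟩
  · rw [← hK k]
    refine Ideal.map_mono (Ideal.span_le.2 fun x hx => ?_)
    obtain ⟨l, -, hl⟩ := Finset.mem_biUnion.1 (Finset.mem_coe.1 hx)
    exact hsK l hl
  · refine (hs k).symm.le.trans (Ideal.map_mono (Ideal.span_mono ?_))
    intro x hx
    exact Finset.mem_coe.2 (Finset.mem_biUnion.2 ⟨k, Finset.mem_univ _, hx⟩)

end Groth.Agent.Transporter
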