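import Groth.Agent.TransporterLib.Glue
import Groth.Agent.MultEqLib.Piece
import Groth.Agent.TrivLocusLib.Global
import Groth.Agent.MultLiftLib.Eq

/-!
The transporter of two homomorphisms from a group of multiplicative type as a local condition.
-/

set_option autoImplicit false
set_option backward.isDefEq.respectTransparency false

noncomputable section

universe u

open CategoryTheory CategoryTheory.Limits MonoidalCategory CartesianMonoidalCategory AlgebraicGeometry CoactBr
open scoped MonObj

namespace Groth.Agent.Transporter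

open Groth.Agent.FreeAct (DA chr)
open Groth.Agent.MonoLocus (hpt hpt_surjective mp mp_single coeff_mp)

attribute [local instance] CoactBr.braidedAlgSpecOf

variable {S : Scheme.{u}} {H G : Over S} [GrpObj G] (u₁ u₂ : H ⟶ G)

/-- All points over the test scheme transport the first homomorphism into the second. -/
def Transports {T : Scheme.{u}} (t : T ⟶ G.left) : Prop :=
  ∀ (Y : Over S) (g : Y ⟶ G) (h : Y ⟶ H), (∃ x : Y.left ⟶ T, x ≫ t = g.left) → g * (h ≫ u₁) * g⁻¹ = h ≫ u₂

/-- The transporter condition. -/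
def pred : LocPred G.left where
  P t := Transports u₁ u₂ t
  comp := fun {_ _} f {_} ht Y g h hx => by
    obtain ⟨x, hx⟩ := hx
    exact ht Y g h ⟨x ≫ f, (Category.assoc _ _ _).trans hx⟩
  of_family := fun {T t I T'} q hflat hsurj h Y g y hx => by
    obtain ⟨x, hx⟩ := hx
    let P : I → Scheme.{u} := fun i => pullback x (q i)
    let π : (∐ P) ⟶ Y.left := Sigma.desc fun i => pullback.fst x (q i)
    haveI : Flat π := IsZariskiLocalAtSource.sigmaDesc fun i => by
      haveI := hflat i
      infer_instance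
    haveI : Surjective π := ⟨fun a => by
      obtain ⟨i, b, hb⟩ := hsurj (x a)
      obtain ⟨w, hw, -⟩ := Scheme.Pullback.exists_preimage_pullback (f := x) (g := q i) a b hb.symm
      refine ⟨Sigma.ι P i w, ?_⟩
      rw [← Scheme.Hom.comp_apply, Sigma.ι_desc]
      exact hw⟩
    haveI : Epi π := Flat.epi_of_flat_of_surjective π
    refine Over.OverMorphism.ext ((cancel_epi π).1 (Sigma.hom_ext _ _ fun i => ?_))
    let Y' : Over S := Over.mk (pullback.fst x (q i) ≫ Y.hom)
    let e : Y' ⟶ Y := Over.homMk (pullback.fst _ _)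
    have h1 := h i Y' (e ≫ g) (e ≫ y) ⟨pullback.snd _ _, by
      show pullback.snd x (q i) ≫ q i ≫ t = pullback.fst x (q i) ≫ g.left
      rw [← pullback.condition_assoc, hx]⟩
    rw [Category.assoc, Category.assoc, ← GrpObj.comp_inv, ← MonObj.comp_mul, ← MonObj.comp_mul] at h1
    rw [Sigma.ι_desc_assoc, Sigma.ι_desc_assoc]
    exact congrArg CommaMorphism.left h1

/-- Closed subschemes of finite presentation of affine schemes. -/
theorem exists_fg_ideal {Z P : Scheme.{u}} (z : Z ⟶ P) [IsClosedImmersion z] [LocallyOfFinitePresentation z]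
    {D : CommRingCat.{u}} (ρ : Spec D ⟶ P) :
    ∃ J : Ideal D, J.FG ∧ ∀ (E : CommRingCat.{u}) (φ : D ⟶ E),
      (∃ l : Spec E ⟶ Z, l ≫ z = Spec.map φ ≫ ρ) ↔ J ≤ RingHom.ker φ.hom := by
  obtain ⟨J, e, he⟩ := IsClosedImmersion.Spec_iff.1 (inferInstance : IsClosedImmersion (pullback.snd z ρ))
  have hfp : LocallyOfFinitePresentation (Spec.map (CommRingCat.ofHom (Ideal.Quotient.mk J))) := by
    rw [(Iso.eq_inv_comp e).2 he.symm]
    infer_instance
  have hJ : J.FG := by
    have h := (HasRingHomProperty.Spec_iff (P := @LocallyOfFinitePresentation)).1 hfp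
    letI : Algebra D (D ⧸ J) := (Ideal.Quotient.mk J).toAlgebra
    haveI : Algebra.FinitePresentation D (D ⧸ J) := h
    have h' := Algebra.FinitePresentation.ker_fG_of_surjective (Algebra.ofId D (D ⧸ J)) Ideal.Quotient.mk_surjective
    rwa [show RingHom.ker (Algebra.ofId D (D ⧸ J)).toRingHom = J from Ideal.mk_ker] at h'
  refine ⟨J, hJ, fun E φ => ⟨?_, fun h => ?_⟩⟩
  · rintro ⟨l, hl⟩
    let m := pullback.lift l (Spec.map φ) hl ≫ e.hom
    have hm : Spec.map φ = Spec.map (Spec.preimage m) ≫ Spec.map (CommRingCat.ofHom (Ideal.Quotient.mk J)) := by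
      rw [Spec.map_preimage, show m = pullback.lift l (Spec.map φ) hl ≫ e.hom from rfl, Category.assoc, ← he,
        pullback.lift_snd]
    rw [← Spec.map_comp] at hm
    intro c hc
    rw [RingHom.mem_ker, Spec.map_injective hm]
    show (Spec.preimage m).hom (Ideal.Quotient.mk J c) = 0
    rw [Ideal.Quotient.eq_zero_iff_mem.2 hc, map_zero]
  · refine ⟨Spec.map (CommRingCat.ofHom (Ideal.Quotient.lift J φ.hom fun c hc => h hc)) ≫ e.inv ≫ pullback.fst z ρ, ?_⟩
    rw [Category.assoc, Category.assoc, pullback.condition, ← Category.assoc e.inv, he, e.inv_hom_id_assoc,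
      ← Category.assoc, ← Spec.map_comp]
    rfl

/-- The transporter over a piece on which the group is split. -/
theorem exists_ideal_piece [GrpObj H] [IsSeparated G.hom] [LocallyOfFiniteType G.hom] {R : Type u} [CommRing R]
    (p : Spec (CommRingCat.of R) ⟶ S) {M : Type} [AddCommGroup M] (w : sp R (DA R M) ≅ Red.bc p H)
    (v : Spec (CommRingCat.of R) ⟶ G.left) (hv : v ≫ G.hom = p) :
    ∃ I : Ideal R, I.FG ∧ HasIdeal (pred u₁ u₂) (A := CommRingCat.of R) v I := by
  classical
  let adj := Over.mapPullbackAdj p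
  let Y₀ := (Over.map p).obj (sp R (DA R M))
  let g₀ : Y₀ ⟶ G := Over.homMk ((sp R (DA R M)).hom ≫ v) (by
    show ((sp R (DA R M)).hom ≫ v) ≫ G.hom = (sp R (DA R M)).hom ≫ p
    rw [Category.assoc, hv])
  let h₀ : Y₀ ⟶ H := (adj.homEquiv (sp R (DA R M)) H).symm w.hom
  let a : Y₀ ⟶ G := g₀ * (h₀ ≫ u₁) * g₀⁻¹
  let b : Y₀ ⟶ G := h₀ ≫ u₂
  haveI : LocallyOfFinitePresentation (pullback.diagonal G.hom) := AlgSpLib.lfp_diagonal G.hom
  let m : Spec (CommRingCat.of (DA R M)) ⟶ pullback G.hom G.hom :=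
    pullback.lift a.left b.left ((Over.w a).trans (Over.w b).symm)
  obtain ⟨J, ⟨gens, hgens⟩, hJ⟩ := exists_fg_ideal (pullback.diagonal G.hom) m
  let I : Ideal R := Ideal.span ↑(gens.biUnion fun d => d.coeff.support.image fun j => d.coeff j)
  refine ⟨I, ⟨_, rfl⟩, fun C φ => ?_⟩
  have hIJ : I ≤ RingHom.ker φ.hom ↔ J ≤ RingHom.ker (mp (M := M) φ.hom) := by
    rw [Ideal.span_le, ← hgens, Submodule.span_le]
    constructor
    · intro h d hd
      show mp φ.hom d = 0
      refine MonoidAlgebra.ext (Finsupp.ext fun j => ?_)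
      rw [coeff_mp]
      by_cases hj : j ∈ d.coeff.support
      · rw [show φ.hom (d.coeff j) = 0 from h (Finset.mem_coe.2 (Finset.mem_biUnion.2
          ⟨d, hd, Finset.mem_image.2 ⟨j, hj, rfl⟩⟩))]
        simp
      · rw [Finsupp.notMem_support_iff.1 hj, map_zero]
        simp
    · intro h c hc
      obtain ⟨d, hd, hc⟩ := Finset.mem_biUnion.1 (Finset.mem_coe.1 hc)
      obtain ⟨j, -, rfl⟩ := Finset.mem_image.1 hc
      show φ.hom (d.coeff j) = 0
      rw [← coeff_mp, show mp φ.hom d = 0 from h hd]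
      simp
  rw [hIJ]
  constructor
  · intro hP
    let E : CommRingCat.{u} := CommRingCat.of (MonoidAlgebra C (Multiplicative M))
    let ψ : CommRingCat.of (DA R M) ⟶ E := CommRingCat.ofHom (mp φ.hom)
    refine (hJ E ψ).1 ?_
    let Y : Over S := Over.mk (Spec.map ψ ≫ Y₀.hom)
    let e : Y ⟶ Y₀ := Over.homMk (Spec.map ψ)
    have hcomp : CommRingCat.ofHom (algebraMap R (DA R M)) ≫ ψ =
        φ ≫ CommRingCat.ofHom (algebraMap C (MonoidAlgebra C (Multiplicative M))) := by
      refine CommRingCat.hom_ext (RingHom.ext fun r => ?_)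
      show mp φ.hom (algebraMap R (DA R M) r) = algebraMap C _ (φ.hom r)
      rw [MonoidAlgebra.coe_algebraMap, MonoidAlgebra.coe_algebraMap]
      simp [mp_single]
    have h1 := hP Y (e ≫ g₀) (e ≫ h₀) ⟨Spec.map (CommRingCat.ofHom (algebraMap C _)), by
      show _ ≫ Spec.map φ ≫ v = Spec.map ψ ≫ Spec.map (CommRingCat.ofHom (algebraMap R (DA R M))) ≫ v
      rw [← Category.assoc, ← Spec.map_comp, ← Category.assoc (Spec.map ψ), ← Spec.map_comp, hcomp]⟩
    rw [Category.assoc, Category.assoc, ← GrpObj.comp_inv, ← MonObj.comp_mul, ← MonObj.comp_mul] at h1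
    have h2 : Spec.map ψ ≫ a.left = Spec.map ψ ≫ b.left := congrArg CommaMorphism.left h1
    refine ⟨Spec.map ψ ≫ a.left, pullback.hom_ext ?_ ?_⟩
    · exact (Category.assoc _ _ _).trans (((congrArg (_ ≫ ·) (pullback.diagonal_fst _)).trans (Category.comp_id _)).trans
        ((congrArg (Spec.map ψ ≫ ·) (pullback.lift_fst _ _ _).symm).trans (Category.assoc _ _ _).symm))
    · exact (Category.assoc _ _ _).trans (((congrArg (_ ≫ ·) (pullback.diagonal_snd _)).trans (Category.comp_id _)).trans
        (h2.trans ((congrArg (Spec.map ψ ≫ ·) (pullback.lift_snd _ _ _).symm).trans (Category.assoc _ _ _).symm)))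
  · intro hJker Y g h hx
    obtain ⟨x, hx⟩ := hx
    refine Over.OverMorphism.ext (Scheme.Cover.hom_ext Y.left.affineCover _ _ fun k => ?_)
    haveI : IsAffine (Y.left.affineCover.X k) := inferInstance
    refine (cancel_epi (Y.left.affineCover.X k).isoSpec.inv).1 ?_
    let F : Type u := Γ(Y.left.affineCover.X k, ⊤)
    let c : Spec (CommRingCat.of F) ⟶ Y.left := (Y.left.affineCover.X k).isoSpec.inv ≫ Y.left.affineCover.f k
    obtain ⟨κ, hκ⟩ := Spec.map_surjective (c ≫ x)
    letI : Algebra R F := (κ.hom.comp φ.hom).toAlgebra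
    let ε : (Over.map p).obj (sp R F) ⟶ Y := Over.homMk c (by
      show c ≫ Y.hom = Spec.map (CommRingCat.ofHom (κ.hom.comp φ.hom)) ≫ p
      rw [← Over.w g, ← hx, CommRingCat.ofHom_comp, Spec.map_comp, CommRingCat.ofHom_hom, CommRingCat.ofHom_hom, hκ]
      simp only [Category.assoc]
      exact congrArg (fun r => c ≫ x ≫ Spec.map φ ≫ r) hv)
    obtain ⟨χ, hχ⟩ := hpt_surjective p w (ε ≫ h)
    let q : (Over.map p).obj (sp R F) ⟶ Y₀ := (Over.map p).map (pt (chr (R := R) F χ))
    have hh : q ≫ h₀ = ε ≫ h := hχ.symm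
    have hg : q ≫ g₀ = ε ≫ g := by
      refine Over.OverMorphism.ext ?_
      show (pt (chr (R := R) F χ)).left ≫ (sp R (DA R M)).hom ≫ v = c ≫ g.left
      have h3 : Spec.map (CommRingCat.ofHom (κ.hom.comp φ.hom)) = (c ≫ x) ≫ Spec.map φ := by
        rw [CommRingCat.ofHom_comp, Spec.map_comp, CommRingCat.ofHom_hom, CommRingCat.ofHom_hom, hκ]
      rw [← Category.assoc, Over.w (pt (chr (R := R) F χ)), ← hx]
      show Spec.map (CommRingCat.ofHom (κ.hom.comp φ.hom)) ≫ v = _
      rw [h3]
      simp only [Category.assoc]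
    let L : MonoidAlgebra C (Multiplicative M) →+* F := MonoLocus.ev κ.hom χ
    have hL : (chr (R := R) F χ).toRingHom = L.comp (mp φ.hom) := by
      refine MonoidAlgebra.ringHom_ext (fun r => ?_) fun j => ?_
      · show chr (R := R) F χ (MonoidAlgebra.single 1 r) = L (mp φ.hom (MonoidAlgebra.single 1 r))
        rw [mp_single, MonoLocus.ev_single, chr, MonoidAlgebra.lift_single, map_one, mul_one, Algebra.smul_def,
          mul_one]
        rfl
      · show chr (R := R) F χ (MonoidAlgebra.single j 1) = L (mp φ.hom (MonoidAlgebra.single j 1))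
        rw [mp_single, MonoLocus.ev_single, chr, MonoidAlgebra.lift_single, map_one, map_one, one_mul, one_smul]
    obtain ⟨l, hl⟩ := (hJ (CommRingCat.of F) (CommRingCat.ofHom (chr (R := R) F χ).toRingHom)).2 (by
      intro d hd
      show (chr (R := R) F χ).toRingHom d = 0
      rw [hL, RingHom.comp_apply, show mp φ.hom d = 0 from hJker hd, map_zero])
    have hl1 := congrArg (· ≫ pullback.fst G.hom G.hom) hl
    have hl2 := congrArg (· ≫ pullback.snd G.hom G.hom) hl
    simp only [Category.assoc, pullback.diagonal_fst, pullback.diagonal_snd, Category.comp_id, m,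
      pullback.lift_fst, pullback.lift_snd] at hl1 hl2
    have hab : q ≫ a = q ≫ b := Over.OverMorphism.ext (hl1.symm.trans hl2)
    have hfin : ε ≫ (g * (h ≫ u₁) * g⁻¹) = ε ≫ h ≫ u₂ := by
      rw [MonObj.comp_mul, MonObj.comp_mul, GrpObj.comp_inv, ← Category.assoc, ← hg, ← hh, Category.assoc,
        ← GrpObj.comp_inv, ← MonObj.comp_mul, ← MonObj.comp_mul, ← Category.assoc ε h u₂, ← hh, Category.assoc]
      exact hab
    have h4 := congrArg CommaMorphism.left hfin
    simp only [Over.comp_left, ε, Over.homMk_left, c, Category.assoc] at h4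
    simpa only [Over.comp_left, Category.assoc] using h4

end Groth.Agent.Transporter
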