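import Groth.Agent.TransporterLib.Pred
import Groth.Agent.TransporterLib.Factor
import Groth.Agent.MultEqLib.Piece
import Groth.Agent.TrivLocusLib.Global
import Groth.Agent.MultLiftLib.Eq

/-!
The transporter of a group of multiplicative type into a closed subscheme as a local condition.
-/

set_option autoImplicit false
set_option backward.isDefEq.respectTransparency false

noncomputable section

universe u

open CategoryTheory CategoryTheory.Limits MonoidalCategory CartesianMonoidalCategory AlgebraicGeometry CoactBr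
open scoped MonObj

namespace Groth.Agent.Transporter

open Groth.Agent.FreeAct (DA chr)
open Groth.Agent.MonoLocus (hpt hpt_surjective mp mp_single coeff_mp)

attribute [local instance] CoactBr.braidedAlgSpecOf

variable {S : Scheme.{u}} {H K G : Over S} [GrpObj G] (u₁ : H ⟶ G) (z : K ⟶ G)

/-- All conjugated points over the test scheme lie in the closed subscheme. -/
def Enters {T : Scheme.{u}} (t : T ⟶ G.left) : Prop :=
  ∀ (Y : Over S) (g : Y ⟶ G) (h : Y ⟶ H), (∃ x : Y.left ⟶ T, x ≫ t = g.left) →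
    ∃ k : Y ⟶ K, k ≫ z = g * (h ≫ u₁) * g⁻¹

theorem exists_lift_over {Y : Over S} (a : Y ⟶ G) (l : Y.left ⟶ K.left) (hl : l ≫ z.left = a.left) :
    ∃ k : Y ⟶ K, k ≫ z = a :=
  ⟨Over.homMk l (by rw [← Over.w z, ← Category.assoc, hl, Over.w a]), Over.OverMorphism.ext hl⟩

/-- The condition of entering a closed subscheme. -/
def subPred [IsClosedImmersion z.left] : LocPred G.left where
  P t := Enters u₁ z t
  comp := fun {_ _} f {_} ht Y g h hx => by
    obtain ⟨x, hx⟩ := hx
    exact ht Y g h ⟨x ≫ f, (Category.assoc _ _ _).trans hx⟩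
  of_family := fun {T t I T'} q hflat hsurj h Y g y hx => by
    obtain ⟨x, hx⟩ := hx
    obtain ⟨l, hl⟩ := exists_lift_of_family z.left (g * (y ≫ u₁) * g⁻¹).left
      (fun i => pullback.fst x (q i)) (fun i => by haveI := hflat i; infer_instance) (fun a => by
        obtain ⟨i, b, hb⟩ := hsurj (x a)
        obtain ⟨w, hw, -⟩ := Scheme.Pullback.exists_preimage_pullback (f := x) (g := q i) a b hb.symm
        exact ⟨i, w, hw⟩) (fun i => by
        let Y' : Over S := Over.mk (pullback.fst x (q i) ≫ Y.hom)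
        let e : Y' ⟶ Y := Over.homMk (pullback.fst _ _)
        obtain ⟨k, hk⟩ := h i Y' (e ≫ g) (e ≫ y) ⟨pullback.snd _ _, by
          show pullback.snd x (q i) ≫ q i ≫ t = pullback.fst x (q i) ≫ g.left
          rw [← pullback.condition_assoc, hx]⟩
        rw [Category.assoc, ← GrpObj.comp_inv, ← MonObj.comp_mul, ← MonObj.comp_mul] at hk
        exact ⟨k.left, congrArg CommaMorphism.left hk⟩)
    exact exists_lift_over z _ l hl

/-- Entering a closed subscheme over a piece on which the group is split. -/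
theorem exists_ideal_subPiece [GrpObj H] [IsClosedImmersion z.left] [LocallyOfFinitePresentation z.left] {R : Type u} [CommRing R]
    (p : Spec (CommRingCat.of R) ⟶ S) {M : Type} [AddCommGroup M] (w : sp R (DA R M) ≅ Red.bc p H)
    (v : Spec (CommRingCat.of R) ⟶ G.left) (hv : v ≫ G.hom = p) :
    ∃ I : Ideal R, I.FG ∧ HasIdeal (subPred u₁ z) (A := CommRingCat.of R) v I := by
  classical
  let adj := Over.mapPullbackAdj p
  let Y₀ := (Over.map p).obj (sp R (DA R M))
  let g₀ : Y₀ ⟶ G := Over.homMk ((sp R (DA R M)).hom ≫ v) (by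
    show ((sp R (DA R M)).hom ≫ v) ≫ G.hom = (sp R (DA R M)).hom ≫ p
    rw [Category.assoc, hv])
  let h₀ : Y₀ ⟶ H := (adj.homEquiv (sp R (DA R M)) H).symm w.hom
  let a : Y₀ ⟶ G := g₀ * (h₀ ≫ u₁) * g₀⁻¹
  obtain ⟨J, ⟨gens, hgens⟩, hJ⟩ := exists_fg_ideal z.left (D := CommRingCat.of (DA R M)) a.left
  let I : Ideal R := Ideal.span ↑(gens.biUnion fun d => d.coeff.support.image fun j => d.coeff j)
  refine ⟨I, ⟨_, rfl⟩, fun C φ => ?_⟩
  have hIJ : I ≤ RingHom.ker φ.hom ↔ J ≤ RingHom.ker (mp (M := M) φ.hom) := by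
    rw [Ideal.span_le, ← hgens, Submodule.span_le]
    constructor
    · intro h d hd
      show mp φ.hom d = 0
      refine MonoidAlgebra.ext (Finsupp.ext fun j => ?_)
      rw [coeff_mp]
      by_cases hj : j ∈ d.coeff.support
      · rw [show φ.hom (d.coeff j) = 0 from h (Finset.mem_coe.2 (Finset.mem_biUnion.2
          ⟨d, hd, Finset.mem_image.2 ⟨j, hj, rfl⟩⟩))]
        simp
      · rw [Finsupp.notMem_support_iff.1 hj, map_zero]
        simp
    · intro h c hc
      obtain ⟨d, hd, hc⟩ := Finset.mem_biUnion.1 (Finset.mem_coe.1 hc)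
      obtain ⟨j, -, rfl⟩ := Finset.mem_image.1 hc
      show φ.hom (d.coeff j) = 0
      rw [← coeff_mp, show mp φ.hom d = 0 from h hd]
      simp
  rw [hIJ]
  constructor
  · intro hP
    let E : CommRingCat.{u} := CommRingCat.of (MonoidAlgebra C (Multiplicative M))
    let ψ : CommRingCat.of (DA R M) ⟶ E := CommRingCat.ofHom (mp φ.hom)
    refine (hJ E ψ).1 ?_
    let Y : Over S := Over.mk (Spec.map ψ ≫ Y₀.hom)
    let e : Y ⟶ Y₀ := Over.homMk (Spec.map ψ)
    have hcomp : CommRingCat.ofHom (algebraMap R (DA R M)) ≫ ψ =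
        φ ≫ CommRingCat.ofHom (algebraMap C (MonoidAlgebra C (Multiplicative M))) := by
      refine CommRingCat.hom_ext (RingHom.ext fun r => ?_)
      show mp φ.hom (algebraMap R (DA R M) r) = algebraMap C _ (φ.hom r)
      rw [MonoidAlgebra.coe_algebraMap, MonoidAlgebra.coe_algebraMap]
      simp [mp_single]
    obtain ⟨k, h1⟩ := hP Y (e ≫ g₀) (e ≫ h₀) ⟨Spec.map (CommRingCat.ofHom (algebraMap C _)), by
      show _ ≫ Spec.map φ ≫ v = Spec.map ψ ≫ Spec.map (CommRingCat.ofHom (algebraMap R (DA R M))) ≫ v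
      rw [← Category.assoc, ← Spec.map_comp, ← Category.assoc (Spec.map ψ), ← Spec.map_comp, hcomp]⟩
    rw [Category.assoc, ← GrpObj.comp_inv, ← MonObj.comp_mul, ← MonObj.comp_mul] at h1
    exact ⟨k.left, congrArg CommaMorphism.left h1⟩
  · intro hJker Y g h hx
    obtain ⟨x, hx⟩ := hx
    suffices hloc : ∀ k, ∃ l : Spec (CommRingCat.of Γ(Y.left.affineCover.X k, ⊤)) ⟶ K.left, l ≫ z.left =
        ((Y.left.affineCover.X k).isoSpec.inv ≫ Y.left.affineCover.f k) ≫ (g * (h ≫ u₁) * g⁻¹).left by
      obtain ⟨l', hl'⟩ := exists_lift_of_family z.left (g * (h ≫ u₁) * g⁻¹).left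
        (fun k => (Y.left.affineCover.X k).isoSpec.inv ≫ Y.left.affineCover.f k) (fun k => inferInstance)
        (fun y => by
          obtain ⟨k, b, hb⟩ := Y.left.affineCover.exists_eq y
          exact ⟨k, (Y.left.affineCover.X k).isoSpec.hom b, by
            rw [← Scheme.Hom.comp_apply, Iso.hom_inv_id_assoc]; exact hb⟩) hloc
      exact exists_lift_over z _ l' hl'
    intro k
    haveI : IsAffine (Y.left.affineCover.X k) := inferInstance
    let F : Type u := Γ(Y.left.affineCover.X k, ⊤)
    let c : Spec (CommRingCat.of F) ⟶ Y.left := (Y.left.affineCover.X k).isoSpec.inv ≫ Y.left.affineCover.f k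
    obtain ⟨κ, hκ⟩ := Spec.map_surjective (c ≫ x)
    letI : Algebra R F := (κ.hom.comp φ.hom).toAlgebra
    let ε : (Over.map p).obj (sp R F) ⟶ Y := Over.homMk c (by
      show c ≫ Y.hom = Spec.map (CommRingCat.ofHom (κ.hom.comp φ.hom)) ≫ p
      rw [← Over.w g, ← hx, CommRingCat.ofHom_comp, Spec.map_comp, CommRingCat.ofHom_hom, CommRingCat.ofHom_hom, hκ]
      simp only [Category.assoc]
      exact congrArg (fun r => c ≫ x ≫ Spec.map φ ≫ r) hv)
    obtain ⟨χ, hχ⟩ := hpt_surjective p w (ε ≫ h)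
    let q : (Over.map p).obj (sp R F) ⟶ Y₀ := (Over.map p).map (pt (chr (R := R) F χ))
    have hh : q ≫ h₀ = ε ≫ h := hχ.symm
    have hg : q ≫ g₀ = ε ≫ g := by
      refine Over.OverMorphism.ext ?_
      show (pt (chr (R := R) F χ)).left ≫ (sp R (DA R M)).hom ≫ v = c ≫ g.left
      have h3 : Spec.map (CommRingCat.ofHom (κ.hom.comp φ.hom)) = (c ≫ x) ≫ Spec.map φ := by
        rw [CommRingCat.ofHom_comp, Spec.map_comp, CommRingCat.ofHom_hom, CommRingCat.ofHom_hom, hκ]
      rw [← Category.assoc, Over.w (pt (chr (R := R) F χ)), ← hx]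
      show Spec.map (CommRingCat.ofHom (κ.hom.comp φ.hom)) ≫ v = _
      rw [h3]
      simp only [Category.assoc]
    let L : MonoidAlgebra C (Multiplicative M) →+* F := MonoLocus.ev κ.hom χ
    have hL : (chr (R := R) F χ).toRingHom = L.comp (mp φ.hom) := by
      refine MonoidAlgebra.ringHom_ext (fun r => ?_) fun j => ?_
      · show chr (R := R) F χ (MonoidAlgebra.single 1 r) = L (mp φ.hom (MonoidAlgebra.single 1 r))
        rw [mp_single, MonoLocus.ev_single, chr, MonoidAlgebra.lift_single, map_one, mul_one, Algebra.smul_def,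
          mul_one]
        rfl
      · show chr (R := R) F χ (MonoidAlgebra.single j 1) = L (mp φ.hom (MonoidAlgebra.single j 1))
        rw [mp_single, MonoLocus.ev_single, chr, MonoidAlgebra.lift_single, map_one, map_one, one_mul, one_smul]
    obtain ⟨l, hl⟩ := (hJ (CommRingCat.of F) (CommRingCat.ofHom (chr (R := R) F χ).toRingHom)).2 (by
      intro d hd
      show (chr (R := R) F χ).toRingHom d = 0
      rw [hL, RingHom.comp_apply, show mp φ.hom d = 0 from hJker hd, map_zero])
    refine ⟨l, ?_⟩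
    have hfin : q ≫ a = ε ≫ (g * (h ≫ u₁) * g⁻¹) := by
      simp only [a]
      rw [MonObj.comp_mul, MonObj.comp_mul, GrpObj.comp_inv, MonObj.comp_mul, MonObj.comp_mul, GrpObj.comp_inv,
        ← Category.assoc, hg, hh, Category.assoc]
    exact hl.trans (congrArg CommaMorphism.left hfin)

end Groth.Agent.Transporter
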